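import Mathlib
import Cfsg.Agent.Lib.JS.Basic
import Cfsg.Agent.Lib.StdW.A

/-! Standard subgroups of type `O'N`, `He`, `Suz`: a conjugate of an involution of `C(L)` acts as `z`. -/

set_option autoImplicit false
set_option linter.unusedSectionVars false

namespace H79.JS

open Subgroup H69 H36.SW
open H48.SM (Pf)
open scoped commutatorElement

variable {X : Type} [Group X] [Finite X] {G : Type*} [Group G] [Finite G] {F : Dy X}
variable {t : G} {L O : Subgroup G} {α : G → X} {h : X → G}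

theorem exists_iso (H : Fx F) (e : L ≃* F.J) : ∃ (α : G → X) (h : X → G), Iso F.J L α h := by
  classical
  have hJ : _root_.commutator F.J = ⊤ := by
    haveI := H.simple
    refine (Subgroup.Normal.eq_bot_or_eq_top inferInstance).resolve_left fun e0 => H.z1 ?_
    have := commutator_mono Dy.TJ Dy.TJ H.zTT
    rwa [← map_subtype_commutator, e0, Subgroup.map_bot, mem_bot] at this
  have hp : L ≤ ⁅L, L⁆ := by
    have h1 : (_root_.commutator F.J).map e.symm.toMonoidHom = _root_.commutator L := by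
      rw [_root_.commutator_def, map_commutator, map_top_of_surjective _ e.symm.surjective,
        _root_.commutator_def]
    rw [← map_subtype_commutator, ← h1, hJ, map_top_of_surjective _ e.symm.surjective]
    exact fun a ha => ⟨⟨a, ha⟩, mem_top _, rfl⟩
  have hk : ∀ a : L, (e a : X) = 1 → a = 1 := fun a ha => e.map_eq_one_iff.1 (Subtype.ext ha)
  obtain ⟨α, c, hα⟩ := exists_cov H (A := L) (F.J.subtype.comp e.toMonoidHom) (fun a => (e a).2)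
    (fun j hj => ⟨e.symm ⟨j, hj⟩, congrArg Subtype.val (e.apply_symm_apply ⟨j, hj⟩)⟩)
    (fun a ha => by rw [hk a ha]; exact ⟨one_mem _, by simp⟩) hp
  refine ⟨α, fun j => if hj : j ∈ F.J then (e.symm ⟨j, hj⟩ : L) else 1, c, fun j hj => ?_,
    fun j hj => ?_, fun a ha e1 => ?_⟩
  · rw [dif_pos hj]; exact (e.symm ⟨j, hj⟩).2
  · rw [dif_pos hj, hα]; exact congrArg Subtype.val (e.apply_symm_apply ⟨j, hj⟩)
  · exact congrArg Subtype.val (hk ⟨a, ha⟩ ((hα ⟨a, ha⟩).symm.trans e1))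

namespace A1

theorem step0 (H : Fx F) (hF : IsSimpleGroup (Cfsg.generalizedFittingSubgroup G))
    (hL : Cfsg.IsStandardSubgroup L) (h0 : L ≤ Cfsg.generalizedFittingSubgroup G) (c : Cov F.J L α) :
    ∃ g k, A.Bad L g k := by
  have st := A.St.of hL
  obtain ⟨k, hk, k2, k1⟩ := st.ev
  have K1 : 𝐂(L) ≠ ⊥ := fun e => k1 (by rwa [e, mem_bot] at hk)
  by_contra hb
  rcases Cfsg.Agent.S1911.result 𝐂(L) hL.2.1 (fun g hg => (H9.odd_card_iff_forall_orderOf_ne_two _).2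
      fun s hs s2 => hb (by
        obtain ⟨i, hi, rfl⟩ := mem_cj'.1 hs.1
        rw [H9.orderOf_conj] at s2
        rw [← hL.2.2.2] at hg hs
        exact ⟨g, i, hg, hi, H9.mul_self_of_orderOf_two s2, H9.ne_one_of_orderOf_two s2, hs.2⟩)) with h | h
  · exact st.S 1 (by rw [cj_one]; exact h0.trans (A.le_of_normal hF h K1))
  · have KY : 𝐂(L) ≤ normalClosure (𝐂(L) : Set G) := le_normalClosure
    have LY := h0.trans (A.le_of_normal hF (M := normalClosure (𝐂(L) : Set G)) inferInstance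
      fun e => K1 (le_bot_iff.1 (e ▸ KY)))
    obtain ⟨a, ha, ea, a2⟩ := c.lifti H.zJ H.z2
    obtain ⟨u, u2, hu⟩ := H42.SE.exists_involution_not_mem h
    obtain ⟨d, hd, -, e⟩ := H42.SE.exists_conj h (s := ⟨k, KY hk⟩) (t := ⟨a, LY ha⟩)
      (H9.mul_self_of_orderOf_two u2) hu
      (H9.orderOf_eq_two_of_mul_self (fun e => k1 (congrArg Subtype.val e)) (Subtype.ext k2))
      (le_normalizer hk)
      (H9.orderOf_eq_two_of_mul_self (fun e => H.z1 (by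
        rw [← ea, show a = 1 from congrArg Subtype.val e, c.one])) (Subtype.ext a2))
      (normalizer_le_normalizer_centralizer L (le_normalizer ha))
    have h1 : a ∈ 𝐂(L) := by
      rw [← show (d : G) * k * (d : G)⁻¹ = a from congrArg Subtype.val e]
      exact conj_mem_of_mem_normalizer hd.1 hk
    exact H.z1 (by rw [← ea, c.cen h1])

variable {J : Subgroup X} {g k : G}

theorem ne (st : A.St L) (c : Cov J L α) (b : A.Bad L g k) : α (g * k * g⁻¹) ≠ 1 :=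
  fun e => b.gN (st.T g k b.kK (P2.of_sq b.k2) b.k1 ((c.ker _ b.sN).1 e))

theorem move (c : Cov J L α) (b : A.Bad L g k) {j a : X} (hj : j ∈ J)
    (e : j * a * j⁻¹ = α (g * k * g⁻¹)) : ∃ g, A.Bad L g k ∧ α (g * k * g⁻¹) = a := by
  obtain ⟨l, hl, rfl⟩ := c.onto j hj
  have lN := le_normalizer hl
  have e1 : l⁻¹ * g * k * (l⁻¹ * g)⁻¹ = l⁻¹ * (g * k * g⁻¹) * l⁻¹⁻¹ := by group
  refine ⟨l⁻¹ * g, ⟨fun h => b.gN ((mul_mem_cancel_left (inv_mem lN)).1 h), b.kK, b.k2, b.k1,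
    e1 ▸ mul_mem (mul_mem (inv_mem lN) b.sN) (inv_mem (inv_mem lN))⟩, ?_⟩
  rw [e1, c.conj (inv_mem lN) b.sN, ← e, c.inv lN]; group

theorem nrm (st : A.St L) (c : Iso J L α h) (b : A.Bad L g k) {u : X} (hu : u ∈ J)
    (e : u * α (g * k * g⁻¹) = α (g * k * g⁻¹) * u) : g⁻¹ * h u * g ∈ 𝐍(L) :=
  st.T _ k b.kK (P2.of_sq b.k2) b.k1 (by
    rw [show g⁻¹ * h u * g * k * (g⁻¹ * h u * g)⁻¹ = g⁻¹ * (h u * (g * k * g⁻¹) * (h u)⁻¹) * g by group,
      ← c.comm_of b.sN hu e.symm, mul_inv_cancel_right]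
    simpa [mul_assoc] using b.kK)

theorem split (c : Iso J L α h) (b : A.Bad L g k) {j y : X} (hj : j ∈ J) (hy : y ∈ J) (y1 : y ≠ 1)
    (y2 : y * y = 1) (e : j * α (g * k * g⁻¹) * j⁻¹ = α (g * k * g⁻¹) * y)
    (yN : g⁻¹ * h y * g ∈ 𝐍(L)) :
    (∃ g k, A.Bad L g k ∧ α (g * k * g⁻¹) = y) ∨
      ∃ x, A.Bad L x k ∧ α (x * k * x⁻¹) = α (g⁻¹ * h y * g) := by
  obtain ⟨s, hs⟩ : ∃ s, s = g * k * g⁻¹ := ⟨_, rfl⟩
  have sN : s ∈ 𝐍(L) := hs ▸ b.sN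
  rw [← hs] at e
  have e0 : h j * s * (h j)⁻¹ = s * h y := by
    have e1 := c.conj (inv_mem sN) hj
    have m : α s⁻¹ * j * (α s⁻¹)⁻¹ ∈ J := by
      rw [← c.αh j hj, ← c.cov.conj (inv_mem sN) (c.hN hj)]
      exact c.cov.mem _ (conj_mem_of_mem_normalizer (inv_mem sN) (c.hL j hj))
    have e2 : y = α s⁻¹ * j * (α s⁻¹)⁻¹ * j⁻¹ := by
      rw [c.cov.inv sN]
      calc y = (α s)⁻¹ * (α s * y) := by group
        _ = _ := by rw [← e]; group
    rw [e2, c.mul m (inv_mem hj), ← e1, c.inv hj]; group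
  obtain ⟨x, hx⟩ : ∃ x, x * k * x⁻¹ = k * (g⁻¹ * h y * g) := ⟨g⁻¹ * h j * g, by
    calc _ = g⁻¹ * (h j * (g * k * g⁻¹) * (h j)⁻¹) * g := by group
      _ = _ := by rw [← hs, e0, hs]; group⟩
  have e2 : g * (g⁻¹ * h y * g) * g⁻¹ = h y := by group
  by_cases xN : x ∈ 𝐍(L)
  · refine Or.inl ⟨g, g⁻¹ * h y * g, ⟨b.gN, ?_, ?_, cjne' (c.ne hy y1) g, by rw [e2]; exact c.hN hy⟩,
      by rw [e2, c.αh y hy]⟩
    · have := conj_mem_of_mem_normalizer (normalizer_le_normalizer_centralizer L xN) b.kK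
      rw [hx] at this
      exact (mul_mem_cancel_left b.kK).1 this
    · simpa using cjsq (c.sq hy y2) g⁻¹
  · exact Or.inr ⟨x, ⟨xN, b.kK, b.k2, b.k1, hx ▸ mul_mem (centralizer_le_normalizer _ b.kK) yN⟩,
      by rw [hx, c.cov.cen_mul yN b.kK]⟩

theorem step1 (H : Fx F) (st : A.St L) (c : Iso F.J L α h) (b : A.Bad L g k) :
    ∃ g k, A.Bad L g k ∧ α (g * k * g⁻¹) ∈ F.J := by
  by_cases hJ : α (g * k * g⁻¹) ∈ F.J
  · exact ⟨g, k, b, hJ⟩
  have x2 := c.cov.sq b.sN (cjsq b.k2 g)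
  obtain ⟨⟨u, hu, v, hv, eu, ev, y1, j, hj, e⟩, -⟩ := H.outAll hJ x2
  have uN := nrm st c b hu eu
  have vN := nrm st c b hv ev
  have e3 : g⁻¹ * h ⁅u, v⁆ * g = g⁻¹ * h u * g * (g⁻¹ * h v * g) * (g⁻¹ * h u * g)⁻¹ *
      (g⁻¹ * h v * g)⁻¹ := by rw [c.cmt hu hv, commutatorElement_def]; group
  have cN := mul_mem (mul_mem uN vN) (inv_mem uN)
  have y2 : ⁅u, v⁆ * ⁅u, v⁆ = 1 := by
    have h1 := cjsq x2 j
    have h2 : Commute ⁅u, v⁆ (α (g * k * g⁻¹)) :=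
      ((Commute.mul_left eu ev).mul_left (Commute.inv_left eu)).mul_left (Commute.inv_left ev)
    rwa [e, h2.mul_mul_mul_comm, x2, one_mul] at h1
  rcases split c b hj (H.comm_mem u v) y1 y2 e (e3 ▸ mul_mem cN (inv_mem vN)) with
    ⟨g, k, b, e⟩ | ⟨x, b, e⟩
  · exact ⟨g, k, b, e ▸ H.comm_mem u v⟩
  · refine ⟨x, k, b, ?_⟩
    rw [e, e3, c.cov.mul _ cN _ (inv_mem vN), c.cov.conj uN vN, c.cov.inv vN]
    exact H.comm_mem _ _

theorem pfX (H : Fx F) (f : F.X5 →* X) : f.range ≤ ⁅f.range, f.range⁆ := by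
  obtain ⟨e⟩ := H.isoX
  have h1 : (_root_.commutator (alternatingGroup (Fin 5))).map e.symm.toMonoidHom = _root_.commutator F.X5 := by
    rw [_root_.commutator_def, map_commutator, map_top_of_surjective _ e.symm.surjective,
      _root_.commutator_def]
  rw [commutator_alternatingGroup_eq_top (by simp), map_top_of_surjective _ e.symm.surjective,
    _root_.commutator_def] at h1
  rw [MonoidHom.range_eq_map, ← map_commutator, ← h1]

theorem cmv {v w x y : X} (a : Commute v x) (b : Commute v w) (c : Commute v y) (d : Commute w x)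
    (e : Commute w y) : ⁅v * x, w * y⁆ = ⁅x, y⁆ := by
  have h1 := ((a.mul_right (b.mul_right c)).mul_right a.inv_right).eq
  have h2 := (((d.mul_right e).mul_right d.inv_right).mul_right e.inv_right).eq
  calc ⁅v * x, w * y⁆ = v * (x * (w * y) * x⁻¹) * v⁻¹ * (w * y)⁻¹ := by rw [commutatorElement_def]; group
    _ = x * w * (y * x⁻¹ * y⁻¹) * w⁻¹ := by rw [h1]; group
    _ = w * (x * y * x⁻¹ * y⁻¹) * w⁻¹ := by rw [← d.eq]; group
    _ = _ := by rw [h2, commutatorElement_def]; group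

theorem img (H : Fx F) (f : F.X5 →* X) (n : f ⟨F.z, H.zX⟩ ≠ 1) {y : X} (y2 : y * y = 1) (y1 : y ≠ 1)
    (cy : ∀ x, f x * y = y * f x) : F.Zc y ∨ F.Zc (f ⟨F.z, H.zX⟩) := by
  obtain ⟨e⟩ := H.isoX
  haveI : IsSimpleGroup F.X5 := e.isSimpleGroup
  have fJ : f.range ≤ F.J := H.perf_le (pfX H f)
  have yJ : y ∈ F.J := by
    by_contra yJ
    obtain ⟨j, hj, rfl⟩ := H.out yJ y2
    have kb : f.ker = ⊥ := (Subgroup.Normal.eq_bot_or_eq_top inferInstance).resolve_right fun k =>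
      n (by have : (⟨F.z, H.zX⟩ : F.X5) ∈ f.ker := k ▸ mem_top _
            exact this)
    haveI : Fact (Nat.Prime 5) := ⟨Nat.prime_five⟩
    obtain ⟨d, hd⟩ := exists_prime_orderOf_dvd_card' (G := F.X5) 5 (by
      rw [Nat.card_congr e.toEquiv, nat_card_alternatingGroup]; simp [Nat.factorial])
    have k := H.n5 (j⁻¹ * f d * j⁻¹⁻¹) (H.cjJ (fJ ⟨d, rfl⟩) _)
      (by rw [conj_pow, ← map_pow, ← hd, pow_orderOf_eq_one, map_one]; group) (by
        calc _ = j⁻¹ * (f d * (j * F.φ * j⁻¹)) * j := by group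
          _ = _ := by rw [cy]; group)
    have : d ∈ f.ker := conj_eq_one_iff.1 k
    rw [kb, mem_bot] at this
    rw [this, orderOf_one] at hd
    omega
  rcases H.inv yJ y2 with k | k | ⟨j, hj, rfl⟩
  · exact absurd k y1
  · exact .inl k
  obtain ⟨f', hf⟩ : ∃ f' : F.X5 →* X, ∀ x, f' x = j⁻¹ * f x * j⁻¹⁻¹ :=
    ⟨(MulAut.conj j⁻¹).toMonoidHom.comp f, fun _ => rfl⟩
  have dec : ∀ x ∈ f'.range, ∃ v ∈ F.V, ∃ u ∈ F.X5, x = v * u := by
    rintro _ ⟨x, rfl⟩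
    refine H.cJb _ (H.perf_le (pfX H f') ⟨x, rfl⟩) ?_
    rw [hf]
    calc _ = j⁻¹ * (f x * (j * F.b * j⁻¹)) * j := by group
      _ = _ := by rw [cy]; group
  have le : ⁅f'.range, f'.range⁆ ≤ F.X5 := commutator_le.2 fun x hx y hy => by
    obtain ⟨v, hv, u, hu, rfl⟩ := dec x hx
    obtain ⟨v', hv', u', hu', rfl⟩ := dec y hy
    rw [cmv (H.XV hu hv).symm (H.Rc (H.VR hv) (H.VR hv')) (H.XV hu' hv).symm (H.XV hu hv').symm
      (H.XV hu' hv').symm, commutatorElement_def]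
    exact mul_mem (mul_mem (mul_mem hu hu') (inv_mem hu)) (inv_mem hu')
  have m := le (pfX H f' ⟨⟨F.z, H.zX⟩, rfl⟩)
  rcases H.invX _ m (by rw [← map_mul, show (⟨F.z, H.zX⟩ * ⟨F.z, H.zX⟩ : F.X5) = 1 from Subtype.ext H.z2, map_one])
    with k | k <;> rw [hf] at k
  · exact absurd (conj_eq_one_iff.1 k) n
  · exact .inr (k.of_cj (inv_mem hj))

theorem step2 (H : Fx F) (st : A.St L) (c : Iso F.J L α h) (b : A.Bad L g k)
    (hJ : α (g * k * g⁻¹) ∈ F.J) : ∃ g k, A.Bad L g k ∧ F.Zc (α (g * k * g⁻¹)) := by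
  rcases H.inv hJ (c.cov.sq b.sN (cjsq b.k2 g)) with e | e | e
  · exact absurd e (ne st c.cov b)
  · exact ⟨g, k, b, e⟩
  obtain ⟨i, hi, e⟩ := e
  obtain ⟨g, b, e⟩ := move c.cov b hi e
  have wN : ∀ x : F.X5, g⁻¹ * h x * g ∈ 𝐍(L) := fun x => nrm st c b (H.XJ x.2) (e ▸ H.Xb x x.2)
  obtain ⟨f, hf⟩ : ∃ f : F.X5 →* X, ∀ x, f x = α (g⁻¹ * h x * g) :=
    ⟨MonoidHom.mk' (fun x => α (g⁻¹ * h x * g)) fun x y => by
      rw [← c.cov.mul _ (wN x) _ (wN y), Subgroup.coe_mul, c.mul (H.XJ x.2) (H.XJ y.2)]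
      congr 1
      group, fun _ => rfl⟩
  obtain ⟨j, hj, ej⟩ := H.RB (F.b * F.z) (mul_mem H.bR (H.WR F.zW)) fun k =>
    H.b1 (H.bW _ F.bV ((mul_mem_cancel_right F.zW).1 k))
  rcases split c b hj H.zJ H.z1 H.z2 (e ▸ ej) (wN ⟨F.z, H.zX⟩) with ⟨g, k, b, e⟩ | ⟨x, b', e'⟩
  · exact ⟨g, k, b, e ▸ F.Zz⟩
  have kC : (h F.b)⁻¹ * (g * k * g⁻¹) ∈ 𝐂(L) := c.cov.inv_mul_mem (c.hN H.bJ) b.sN (by rw [e, c.αh _ H.bJ])
  obtain ⟨κ, hκ⟩ : ∃ κ, κ = (h F.b)⁻¹ * (g * k * g⁻¹) := ⟨_, rfl⟩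
  rw [← hκ] at kC
  have es : g * k * g⁻¹ = h F.b * κ := by rw [hκ]; group
  have k2 : κ * κ = 1 := by
    have := cjsq b.k2 g
    rwa [es, (show Commute κ (h F.b) from (c.cen kC H.bJ).symm).mul_mul_mul_comm, c.sq H.bJ H.b2, one_mul] at this
  obtain ⟨i, iC, i2, i1, ic⟩ : ∃ i ∈ 𝐂(L), i * i = 1 ∧ i ≠ 1 ∧ i * κ = κ * i := by
    by_cases k1 : κ = 1
    · obtain ⟨i, iC, i2, i1⟩ := st.ev
      exact ⟨i, iC, i2, i1, by simp [k1]⟩
    · exact ⟨κ, kC, k2, k1, rfl⟩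
  have cs : i * (g * k * g⁻¹) = g * k * g⁻¹ * i :=
    es ▸ Commute.mul_right (c.cen iC H.bJ).symm ic
  have iN : g⁻¹ * i * g⁻¹⁻¹ ∈ 𝐍(L) := st.T _ k b.kK (P2.of_sq b.k2) b.k1 (by
    rw [show g⁻¹ * i * g⁻¹⁻¹ * k * (g⁻¹ * i * g⁻¹⁻¹)⁻¹ = g⁻¹ * (i * (g * k * g⁻¹) * i⁻¹) * g by group, cs,
      mul_inv_cancel_right]
    simpa [mul_assoc] using b.kK)
  have b2 : A.Bad L g⁻¹ i := ⟨fun k => b.gN (inv_mem_iff.1 k), iC, i2, i1, iN⟩
  rcases img H f (by rw [hf, ← e']; exact ne st c.cov b') (c.cov.sq iN (cjsq i2 g⁻¹)) (ne st c.cov b2)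
    (fun x => by
      rw [hf]
      refine c.cov.comm (wN x) iN ?_
      calc _ = g⁻¹ * (h x * i) * g := by group
        _ = _ := by rw [c.cen iC (H.XJ x.2)]; group) with k | k
  · exact ⟨_, i, b2, k⟩
  · exact ⟨x, _, b', by rw [e', ← hf ⟨F.z, H.zX⟩]; exact k⟩

end A1

theorem exists_bad (H : Fx F) (hF : IsSimpleGroup (Cfsg.generalizedFittingSubgroup G))
    (hL : Cfsg.IsStandardSubgroup L) (h0 : L ≤ Cfsg.generalizedFittingSubgroup G) (c : Iso F.J L α h) :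
    ∃ g k, A.Bad L g k ∧ α (g * k * g⁻¹) = F.z := by
  have st := A.St.of hL
  obtain ⟨g, k, b⟩ := A1.step0 H hF hL h0 c.cov
  obtain ⟨g, k, b, hJ⟩ := A1.step1 H st c b
  obtain ⟨g, k, b, j, hj, e⟩ := A1.step2 H st c b hJ
  obtain ⟨g, b, e⟩ := A1.move c.cov b hj e
  exact ⟨g, k, b, e⟩

end H79.JS
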