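import Mathlib
import Cfsg.Agent.Lib.JS.Basic
import Cfsg.Agent.Lib.PGroup.Basic
import Cfsg.Agent.Lib.Invol.Dihedral

/-! Standard subgroups of type `O'N`, `He`, `Suz`: images of `C_J(z)` centralised by a group of order four. -/

set_option autoImplicit false
set_option linter.unusedSectionVars false

namespace H79.JS

open Subgroup H69 H36.SW
open H48.SM (Pf)
open scoped commutatorElement

variable {X : Type} [Group X] [Finite X] {F : Dy X}

namespace A2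

theorem core_le {G : Type*} [Group G] [Finite G] (H : Subgroup G) (h : H.index ≤ 4) :
    H.normalCore.index ≤ 24 := by
  have d : H.normalCore.index ∣ H.index.factorial := by
    rw [normalCore_eq_ker, index_ker, index_eq_card, ← Nat.card_perm]
    exact card_subgroup_dvd_card _
  exact (Nat.le_of_dvd (Nat.factorial_pos _) d).trans (Nat.factorial_le h)

theorem card_le_of {D Z : Subgroup X} {B : Subgroup D} (h : ∀ x ∈ B, (x : X) ∈ Z) :
    Nat.card B ≤ Nat.card Z := by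
  rw [← card_map_subtype]
  exact card_le_of_le fun _ ⟨x, hx, e⟩ => e ▸ h x hx

theorem mode1 (H : Fx F) (m : F.Mode1) (ρ : F.D →* X) (P : Subgroup X) (pP : IsPGroup 2 P)
    (ab : ∀ a ∈ P, ∀ a' ∈ P, a * a' = a' * a) (c4 : 4 ≤ Nat.card P)
    (cP : ∀ a ∈ P, ∀ d, a * ρ d = ρ d * a) (no : ∀ d : F.D, F.Ty F.z d → ρ d ≠ 1) : False := by
  have lemN : ∀ x : F.D, (x : X) ∈ F.T → (∀ d, ρ ⁅x, d⁆ = 1) →
      (∀ τ ∈ F.T, ⁅(x : X), τ⁆ ∈ zpowers F.z) → (x : X) ∈ zpowers F.z := fun x hx h1 h2 => by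
    have h3 : ∀ τ ∈ F.T, τ * x * τ⁻¹ = x ∨ τ * x * τ⁻¹ = x * F.z := fun τ hτ => by
      rcases (mem_zp H.z2).1 (h2 τ hτ) with e | e
      · exact Or.inl (cj_fix.2 (commutatorElement_eq_one_iff_mul_comm.1 e).symm)
      · right
        calc τ * x * τ⁻¹ = ⁅(x : X), τ⁆⁻¹ * x := by rw [commutatorElement_def]; group
          _ = _ := by rw [e, inv_eq_of_mul_eq_one_left H.z2, H.cT x hx.1]
    rcases m.2.2 x hx h3 with e | e | e
    · exact (mem_zp H.z2).2 (Or.inl e)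
    · exact (mem_zp H.z2).2 (Or.inr e)
    · obtain ⟨y, hy, k⟩ := e (ρ.ker.map F.D.subtype) fun d hd => ⟨⁅x, ⟨d, hd⟩⁆, h1 _, rfl⟩
      exact absurd hy (no y (k ▸ Dy.Ty.base : F.Ty F.z (F.D.subtype y)))
  have ha : F.T ⊓ ρ.ker.map F.D.subtype ≤ zpowers F.z := by
    by_contra hn
    obtain ⟨_, ⟨hx, x, hk, rfl⟩, hz, -, h⟩ := H5.exists_step_of_le H.pT (zpowers F.z) inf_le_left
      (le_normalizer_inf le_normalizer (H.TD.trans (normal_iff_le_normalizer_map.1 inferInstance))) hn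
    exact hz (lemN x hx (fun d => by
      rw [map_commutatorElement, show ρ x = 1 from hk, commutatorElement_one_left]) h)
  have hb : ∀ x ∈ P.comap ρ ⊓ F.T.subgroupOf F.D, (x : X) ∈ zpowers F.z := fun x hx => by
    have h1 : ∀ d, ρ ⁅x, d⁆ = 1 := fun d => by
      rw [map_commutatorElement]; exact commutatorElement_eq_one_iff_mul_comm.2 (cP _ hx.1 d)
    exact lemN x hx.2 h1 fun τ hτ => ha ⟨commutator_le_of_le le_rfl le_rfl
      (commutator_mem_commutator hx.2 hτ), ⁅x, ⟨τ, H.TD hτ⟩⁆, h1 _, rfl⟩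
  obtain ⟨U, hU⟩ : ∃ U, U = (F.T.subgroupOf F.D).map ρ := ⟨_, rfl⟩
  have cU : ∀ a ∈ U, ∀ b ∈ P, a * b = b * a := fun a ha b hb => by
    rw [hU] at ha
    obtain ⟨d, -, rfl⟩ := ha
    exact (cP b hb d).symm
  have nU : U ≤ 𝐍(P) := le_normalizer_of_le_centralizer fun a ha b hb => (cU a ha b hb).symm
  have e1 := H1.card_map_mul_card_inf_ker ρ (F.T.subgroupOf F.D)
  have e2 := H1.card_map_mul_card_inf_ker ρ (P.comap ρ ⊓ F.T.subgroupOf F.D)
  have e3 := H1.card_sup_mul_card_inf_of_le_normalizer nU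
  have e4 := card_le_of hb
  have e5 : (P.comap ρ ⊓ F.T.subgroupOf F.D).map ρ = U ⊓ P := by
    rw [hU]
    exact le_antisymm (fun _ ⟨x, hx, e⟩ => e ▸ ⟨⟨x, hx.2, rfl⟩, hx.1⟩)
      fun _ ⟨⟨x, hx, e⟩, hy⟩ => ⟨x, ⟨show ρ x ∈ P from e ▸ hy, hx⟩, e⟩
  have e6 : ρ.ker ⊓ (P.comap ρ ⊓ F.T.subgroupOf F.D) = ρ.ker ⊓ F.T.subgroupOf F.D := by
    rw [← inf_assoc, inf_eq_left.2 (ker_le_comap ρ P)]
  rw [e5, e6] at e2
  rw [← e2, card_zp H.z2 H.z1] at e4
  rw [← hU, card_subgroupOf H.TD] at e1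
  have pU : IsPGroup 2 U := hU ▸ (isPGroup_subgroupOf H.pT _).map ρ
  obtain ⟨j, -, hj⟩ := H.cjTs (isPGroup_sup_of_le_normalizer_right pU pP nU)
  have e7 : (U ⊔ P) ^ᶜ j = F.Ts := eq_of_le_of_card_ge hj (by
    rw [card_cj, H.cardTs, ← e1]
    generalize Nat.card (U ⊔ P : Subgroup X) = a at *
    generalize Nat.card (U ⊓ P : Subgroup X) = i at *
    generalize Nat.card (ρ.ker ⊓ F.T.subgroupOf F.D : Subgroup F.D) = k at *
    have h1 : a * (i * k) ≤ a * 2 := Nat.mul_le_mul_left _ e4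
    have h2 : Nat.card U * 4 * k ≤ Nat.card U * Nat.card P * k :=
      Nat.mul_le_mul_right _ (Nat.mul_le_mul_left _ c4)
    rw [← mul_assoc, e3] at h1
    nlinarith)
  have e8 : P ^ᶜ j ≤ zpowers F.z := fun _ ⟨a, ha, e⟩ => e ▸ (mem_zp H.z2).2 (H.ctr _
    (hj (cj_mem j (mem_sup_right ha))) fun τ hτ => by
      obtain ⟨y, hy, rfl⟩ := mem_cj'.1 (e7.ge hτ.1)
      obtain ⟨u, hu, b, hb, rfl⟩ := (mem_sup_comm cU).1 hy
      exact cjc (Commute.mul_right (cU u hu a ha).symm (ab a ha b hb)))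
  have := card_le_of_le e8
  rw [card_cj, card_zp H.z2 H.z1] at this
  omega

end A2

theorem Fx.cen4 (H : Fx F) : F.Cen4 := fun ρ P pP ab c4 cP => by
  by_contra! no
  exact A2.mode1 H H.mode ρ P pP ab c4 cP no

end H79.JS
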