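import Mathlib
import Cfsg.Agent.Lib.JS.Basic
import Cfsg.Agent.Lib.StdW.A

/-! Standard subgroups of type `O'N`, `He`, `Suz`: the involution of `C(L)` is fused to a diagonal one. -/

set_option autoImplicit false
set_option linter.unusedSectionVars false

namespace H79.JS

open Subgroup H69 H36.SW
open H48.SM (Pf)
open scoped commutatorElement

variable {X : Type} [Group X] [Finite X] {G : Type*} [Group G] [Finite G] {F : Dy X}
variable {t : G} {L O : Subgroup G} {α : G → X} {h : X → G}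

namespace A3

theorem four_le {P : Subgroup X} (hP : IsPGroup 2 P) {a b : X} (ha : a ∈ P) (hb : b ∈ P) (a1 : a ≠ 1)
    (b1 : b ≠ 1) (ab : a ≠ b) : 4 ≤ Nat.card P := by
  classical
  obtain ⟨n, hn⟩ := IsPGroup.iff_card.1 hP
  have h3 : 2 < Nat.card P := by
    letI := Fintype.ofFinite P
    rw [Nat.card_eq_fintype_card]
    exact Fintype.two_lt_card_iff.2 ⟨1, ⟨a, ha⟩, ⟨b, hb⟩, fun e => a1 (congrArg Subtype.val e).symm,
      fun e => b1 (congrArg Subtype.val e).symm, fun e => ab (congrArg Subtype.val e)⟩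
  rw [hn] at h3 ⊢
  rcases n with _ | _ | n
  · omega
  · omega
  · rw [pow_succ, pow_succ]
    have := Nat.pos_of_ne_zero (pow_ne_zero n (two_ne_zero (α := ℕ)))
    omega

/-- no subgroup of order four in `C(L) ∩ C(s)` -/
theorem no4 (H : Fx F) (h4 : F.Cen4) (st : A.St L) (c : Iso F.J L α h) {g k k1 : G} (b : A.Bad L g k)
    (hk1 : k1 ∈ 𝐂(L)) (es : g * k * g⁻¹ = h F.z * k1) {u v : G}
    (hu : u ∈ 𝐂(L)) (hv : v ∈ 𝐂(L)) (uk : u * k1 = k1 * u) (vk : v * k1 = k1 * v) (uv : u * v = v * u)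
    (u4 : u ^ 4 = 1) (v4 : v ^ 4 = 1) (u1 : u ≠ 1) (v1 : v ≠ 1) : u = v := by
  by_contra ne
  obtain ⟨β, c'⟩ : ∃ β : G → X, Cov F.J (L ^ᶜ g) β := ⟨_, c.cov.cj g⟩
  have ha := c.hL _ H.zJ
  have sK : g * k * g⁻¹ ∈ 𝐂(L ^ᶜ g) := cj_centralizer L g ▸ cj_mem g b.kK
  have CN : ∀ x, x * h F.z = h F.z * x → x * k1 = k1 * x → x ∈ 𝐍(L ^ᶜ g) := fun x h1 h2 =>
    st.T' g sK ((P2.of_sq b.k2).conj g) (cjne b.k1 g) (by
      rw [es, (Commute.mul_right h1 h2).eq, mul_inv_cancel_right, ← es]; exact sK)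
  have uN := CN u (hu _ ha).symm uk
  have vN := CN v (hv _ ha).symm vk
  have dN : ∀ d ∈ F.D, h d ∈ 𝐍(L ^ᶜ g) := fun d hd =>
    CN _ (c.comm (Dy.DJ hd) H.zJ (Dy.Dz hd)) (c.cen hk1 (Dy.DJ hd))
  have key : ∀ x, β u * x = x * β u → β v * x = x * β v →
      ∀ a ∈ zpowers (β u) ⊔ zpowers (β v), a * x = x * a := fun x h1 h2 a ha =>
    mem_centralizer_singleton_iff.1 ((sup_le (zpowers_le.2 (mem_centralizer_singleton_iff.2 h1))
      (zpowers_le.2 (mem_centralizer_singleton_iff.2 h2)) : _ ≤ centralizer {x}) ha)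
  have uv' := c'.comm uN vN uv
  have pP : IsPGroup 2 (zpowers (β u) ⊔ zpowers (β v) : Subgroup X) :=
    IsPGroup.to_sup_of_normal_left' (c'.p2 uN (P2.of_four u4)).zpowers (c'.p2 vN (P2.of_four v4)).zpowers
      (zpowers_le.2 (centralizer_le_normalizer _ fun x hx =>
        key _ uv' rfl x (mem_sup_left hx)))
  obtain ⟨d, ty, ed⟩ := h4 (MonoidHom.mk' (fun d : F.D => β (h d)) fun d e => by
      rw [coe_mul, c.mul (Dy.DJ d.2) (Dy.DJ e.2), c'.mul _ (dN _ d.2) _ (dN _ e.2)]) _ pP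
    (fun a ha a' ha' => key a' (key _ rfl uv'.symm a' ha').symm (key _ uv' rfl a' ha').symm a ha)
    (four_le pP (mem_sup_left (mem_zpowers _)) (mem_sup_right (mem_zpowers _))
      (fun e => u1 (st.two b.gN hu ((c'.ker u uN).1 e) (P2.of_four u4)))
      (fun e => v1 (st.two b.gN hv ((c'.ker v vN).1 e) (P2.of_four v4)))
      fun e => ne (inv_mul_eq_one.1 (st.two b.gN (mul_mem (inv_mem hu) hv) (c'.inv_mul_mem uN vN e)
        ((P2.of_four u4).inv.mul (P2.of_four v4) (Commute.inv_left uv)))))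
    fun a ha d => key _ (c'.comm uN (dN _ d.2) (c.cen hu (Dy.DJ d.2)).symm)
      (c'.comm vN (dN _ d.2) (c.cen hv (Dy.DJ d.2)).symm) a ha
  have dJ := Dy.DJ d.2
  have dK : h d ∈ 𝐂(L ^ᶜ g) := (c'.ker _ (dN _ d.2)).1 ed
  have d1 := H.Zc_ne (H.Ty2 ty)
  have d2 := H.Zc_sq (H.Ty2 ty)
  obtain ⟨x, e1, e2⟩ := ty
  have hW : F.D ⊔ (F.J ⊓ centralizer {F.q}) ≤
      ((𝐍(L ^ᶜ g).comap c.hom).map F.J.subtype).comap (MulAut.conj x).toMonoidHom := by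
    refine sup_le (fun y hy => ?_) fun y hy => ?_
    · have := H.cjD (cj_fix.1 e1) hy
      exact ⟨⟨_, Dy.DJ this⟩, dN _ this, rfl⟩
    · refine ⟨⟨_, H.cjJ hy.1 x⟩, st.T' g dK (P2.of_sq (c.sq dJ d2)) (c.ne dJ d1) ?_, rfl⟩
      have : h (x * y * x⁻¹) * h d = h d * h (x * y * x⁻¹) :=
        c.comm (H.cjJ hy.1 x) dJ (e2 ▸ cjc (mem_centralizer_singleton_iff.1 hy.2))
      exact (cj_fix.2 this).symm ▸ dK
  have LN : L ≤ 𝐍(L ^ᶜ g) := fun l hl => by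
    obtain ⟨j, hj, rfl⟩ := c.ex hl
    obtain ⟨j', m, e⟩ := hW (H.gq (H.cjJ hj x⁻¹))
    have e' : (j' : X) = j := e.trans (by simp [mul_assoc])
    exact e' ▸ m
  exact st.S g ((c.cov.le_of_normal H.simple (M := L ⊓ 𝐂(L ^ᶜ g)) inf_le_left
    (le_normalizer_inf le_normalizer (le_normalizer_centralizer LN)) ⟨c.hL _ dJ, dK⟩
    (by rwa [c.αh _ dJ])).trans inf_le_right)

theorem exists_W0 (st : A.St L) (c : Iso F.J L α h) {t : G} (ht : t ∈ 𝐂(L)) (t2 : t * t = 1)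
    (t1 : t ≠ 1) (hS : IsSylowIn 2 (zpowers t) 𝐂(L)) : ∃ O, W0 F t L O α h := by
  obtain ⟨O, h1, h2, h3⟩ := A.exists_O (C := 𝐂(L) ⊓ centralizer {t}) t2
    (hS.mono (zpowers_le.2 ⟨ht, mem_centralizer_singleton_iff.2 rfl⟩) inf_le_left)
    fun k hk => mem_centralizer_singleton_iff.1 hk.2
  exact ⟨O, c, t2, t1, ht,
    fun g e => st.T g t ht (P2.of_sq t2) t1 (by rwa [e, mul_inv_cancel_right]),
    h1.trans inf_le_left, fun o ho => mem_centralizer_singleton_iff.1 (h1 ho).2, h2,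
    fun k hk e => h3 k ⟨hk, mem_centralizer_singleton_iff.2 e⟩⟩

end A3

theorem exists_W (H : Fx F) (h4 : F.Cen4) (st : A.St L) (c : Iso F.J L α h) {g k : G} (b : A.Bad L g k)
    (ez : α (g * k * g⁻¹) = F.z) : ∃ (t : G) (O : Subgroup G), W F t L O α h := by
  have ha := c.hL _ H.zJ
  have a2 := c.sq H.zJ H.z2
  obtain ⟨k1, hk1, es⟩ : ∃ k1 ∈ 𝐂(L), g * k * g⁻¹ = h F.z * k1 :=
    ⟨_, c.cov.inv_mul_mem (le_normalizer ha) b.sN ((c.αh _ H.zJ).trans ez.symm), by group⟩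
  have k12 : k1 * k1 = 1 := by
    have := cjsq b.k2 g
    rwa [es, Commute.mul_mul_mul_comm (hk1 _ ha).symm, a2, one_mul] at this
  have syl : ∀ {t : G}, t ∈ 𝐂(L) → t * t = 1 → t ≠ 1 → IsSylowIn 2 (zpowers t) 𝐂(L) :=
    A.syl2 b.kK b.k2 b.k1 hk1 k12 fun u hu v hv => A3.no4 H h4 st c b hk1 es hu hv
  have k11 : k1 ≠ 1 := fun e => by
    obtain ⟨O, w⟩ := A3.exists_W0 st c b.kK b.k2 b.k1 (syl b.kK b.k2 b.k1)
    exact w.not_conj H g Dy.Zz (by rw [es, e, mul_one])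
  obtain ⟨O, w⟩ := A3.exists_W0 st c hk1 k12 k11 (syl hk1 k12 k11)
  obtain ⟨d, -, e⟩ := (syl hk1 k12 k11).conj (syl b.kK b.k2 b.k1)
  have e1 : d * k1 * d⁻¹ = k :=
    ((mem_zp b.k2).1 (e ▸ cj_mem d (mem_zpowers k1))).resolve_left (cjne k11 d)
  refine ⟨k1, O, w, g * d, ?_⟩
  rw [← hk1 _ ha, ← es, ← e1]; group

end H79.JS
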