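import Mathlib
import Cfsg.Agent.Lib.JS.Basic

/-! The fusion `t ~ t ẑ` is induced by an involution that centralises `O` and `D̂`. -/

set_option autoImplicit false
set_option linter.unusedSectionVars false

namespace H79.JS

open Subgroup H69 H36.SW
open H48.SM (Pf)
open scoped commutatorElement

variable {X : Type} [Group X] [Finite X] {G : Type*} [Group G] [Finite G] {F : Dy X}
variable {t : G} {L O : Subgroup G} {α : G → X} {h : X → G}

namespace C2

theorem tz (H : Fx F) (w : W0 F t L O α h) {g a : _} (ha : a ∈ F.J) (a2 : a * a = 1)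
    (gt : g * t * g⁻¹ = t * h a) (gz : g * h a = h a * g) : g * (t * h a) * g⁻¹ = t := by
  have := H.zJ
  rw [← conj_mul, gt, cj_fix.2 gz, mul_assoc, w.sq ha a2, mul_one]

theorem inv_t (H : Fx F) (w : W0 F t L O α h) {g a : _} (ha : a ∈ F.J) (a2 : a * a = 1)
    (gt : g * t * g⁻¹ = t * h a) (gz : g * h a = h a * g) : g⁻¹ * t * g⁻¹⁻¹ = t * h a := by
  conv_lhs => rw [← tz H w ha a2 gt gz]
  calc _ = g⁻¹ * (g * (t * h a) * g⁻¹) * g⁻¹⁻¹ := rfl
    _ = _ := by group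

theorem z0 (H : Fx F) (w : W0 F t L O α h) {c : G} (ct : c * t = t * c)
    (cM : ∀ m ∈ F.M, c * h m = h m * c) : α c ∈ zpowers F.f :=
  H.cM _ fun m hm => w.of_comm (w.CN c ct) (H.MJ hm) (cM m hm)

/-- an element of `L` times an element of `O` -/
theorem lo (w : W0 F t L O α h) {a : X} (ha : a ∈ F.J) {o : G} (ho : o ∈ O)
    (e : h a * (o * o) = 1) : a = 1 ∧ o = 1 := by
  have h1 : o * o = 1 :=
    w.LO1 (by rw [eq_inv_of_mul_eq_one_right e]; exact inv_mem (w.hL a ha)) (mul_mem ho ho)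
  rw [h1, mul_one] at e
  exact ⟨w.hinj ha (one_mem _) (e.trans w.one.symm), (P2.of_sq h1).eq_one (w.oddO o ho)⟩

theorem step1 (H : Fx F) {g : G} (w : W1 F t L O α h g) :
    ∃ g, W1 F t L O α h g ∧ ∃ a ∈ zpowers F.f, g * g = h a := by
  have gz := w.gM _ H.zM
  have zt : ∀ {k}, k * t * k⁻¹ = t * h F.z → k * h F.z = h F.z * k → k * k * t = t * (k * k) :=
    fun {k} kt kz => cj_fix.1 (by
      rw [show k * k * t * (k * k)⁻¹ = k * (k * t * k⁻¹) * k⁻¹ by group, kt,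
        tz H w.toW0 H.zJ H.z2 kt kz])
  obtain ⟨_, ⟨n, rfl⟩, hp⟩ := exists_odd_P2 g
  have kt : g ^ (2 * n + 1) * t * (g ^ (2 * n + 1))⁻¹ = t * h F.z := by
    rw [pow_succ', pow_mul, pow_two, ← w.gt]
    calc _ = g * ((g * g) ^ n * t * ((g * g) ^ n)⁻¹) * g⁻¹ := by group
      _ = _ := by rw [cj_fix.2 ((show Commute (g * g) t from zt w.gt gz).pow_left n).eq]
  have kM : ∀ m ∈ F.M, g ^ (2 * n + 1) * h m = h m * g ^ (2 * n + 1) := fun m hm =>
    ((show Commute g (h m) from w.gM m hm).pow_left _).eq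
  refine ⟨_, ⟨w.toW0, kt, fun o ho => ((show Commute g o from w.gO o ho).pow_left _).eq, kM⟩, ?_⟩
  generalize g ^ (2 * n + 1) = k at hp kt kM
  have k2 := zt kt (kM _ H.zM)
  have hz := z0 H w.toW0 k2 fun m hm => ((show Commute k (h m) from kM m hm).mul_left (kM m hm)).eq
  refine ⟨_, hz, (w.over2 k2 (hp.mul hp rfl) (H.MJ (H.Z0M hz))).resolve_right fun e => ?_⟩
  have h1 : Commute k (h (α (k * k)) * t) := e ▸ (Commute.refl k).mul_right (Commute.refl k)
  have h2 : Commute k t := by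
    have := (Commute.inv_right (kM _ (H.Z0M hz))).mul_right h1
    rwa [inv_mul_cancel_left] at this
  rw [cj_fix.2 h2.eq, left_eq_mul] at kt
  exact w.ne H.zJ H.z1 kt

theorem step3 (H : Fx F) {g : G} (w : W1 F t L O α h g) :
    ∃ u, W1 F t L O α h u ∧ u * u = 1 := by
  obtain ⟨g, w, a, ha, e⟩ := step1 H w
  rcases H.mem_Z0 ha with rfl | rfl
  · exact ⟨g, w, e.trans w.one⟩
  · refine ⟨g * t, ⟨w.toW0, ?_, fun o ho => ((show Commute g o from w.gO o ho).mul_left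
      (w.Ot o ho).symm).eq, fun m hm => ((show Commute g _ from w.gM m hm).mul_left
      (w.ht (H.MJ hm)).symm).eq⟩, ?_⟩
    · rw [← w.gt]; group
    · rw [show g * t * (g * t) = g * t * g⁻¹ * (g * g) * t by group, w.gt, e, mul_assoc t,
        w.sq H.zJ H.z2, mul_one, w.t2]

end C2

theorem W1.exists_w2 (H : Fx F) {g : G} (w : W1 F t L O α h g) : ∃ u, W2 F t L O α h u := by
  obtain ⟨u, w, u2⟩ := C2.step3 H w
  exact ⟨u, w.toW0, u2, w.gt, w.gO, fun d hd => w.gM d (H.DM hd)⟩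

theorem W2.exists_we (H : Fx F) {u : G} (w : W2 F t L O α h u) : ∃ e, We F t L O α h e ∧ e F.z = u := by
  classical
  let e : X → G := fun a => if ha : F.Zc a then h ha.choose * u * (h ha.choose)⁻¹ else 1
  have key : ∀ j ∈ F.J, e (j * F.z * j⁻¹) = h j * u * (h j)⁻¹ := fun j hj => by
    have ha : F.Zc (j * F.z * j⁻¹) := ⟨j, hj, rfl⟩
    obtain ⟨hk, ek⟩ := ha.choose_spec
    simp only [e, dif_pos ha]
    generalize ha.choose = k at hk ek
    have := w.uD (j⁻¹ * k) (Dy.mem_D.2 ⟨mul_mem (inv_mem hj) hk, by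
      calc j⁻¹ * k * F.z = j⁻¹ * (k * F.z * k⁻¹) * k := by group
        _ = _ := by rw [ek]; group⟩)
    rw [w.mul (inv_mem hj) hk, w.inv hj] at this
    calc h k * u * (h k)⁻¹ = h j * ((h j)⁻¹ * h k * u) * (h k)⁻¹ := by group
      _ = _ := by rw [← this]; group
  refine ⟨e, ⟨w.toW0, ?_, ?_, ?_, ?_⟩, by simpa [w.one] using key 1 (one_mem _)⟩
  · rintro _ ⟨j, hj, rfl⟩
    rw [key j hj, cjsq w.u2]
  · rintro _ ⟨j, hj, rfl⟩
    rw [key j hj]
    calc _ = h j * (u * ((h j)⁻¹ * t * (h j)⁻¹⁻¹) * u⁻¹) * (h j)⁻¹ := by group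
      _ = _ := by
        rw [w.cjt (inv_mem (w.hL j hj)), w.ut, ← conj_mul (b := h j), w.cjt (w.hL j hj),
          ← w.cj hj H.zJ]
  · rintro _ ⟨j, hj, rfl⟩ o ho
    rw [key j hj]
    exact (((show Commute _ o from w.hO hj ho).mul_left (w.uO o ho)).mul_left
      (Commute.inv_left (w.hO hj ho))).eq
  · rintro _ ⟨j, hj, rfl⟩ k hk
    rw [show k * (j * F.z * j⁻¹) * k⁻¹ = k * j * F.z * (k * j)⁻¹ by group, key _ (mul_mem hk hj),
      key j hj, w.mul hk hj]
    group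

end H79.JS
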