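import Mathlib
import Cfsg.Agent.Lib.JS.D0

/-! `e a * e c = e (a c)` for pairs of type `(z, q)`. -/

set_option autoImplicit false
set_option linter.unusedSectionVars false

namespace H79.JS

open Subgroup H69 H36.SW

variable {X : Type} [Group X] {G : Type*} [Group G] {F : Dy X}
variable {t : G} {L O : Subgroup G} {α : G → X} {h e : X → G}

namespace D1
open D0

theorem shape (H : Fx F) (x : We F t L O α h e) {b c : X} (hb : F.Zc b) (hc : F.Zc c) (hk : F.Zc (b * c))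
    (ln : ∀ g, F.CC b c g → g = 1 ∨ g = b ∨ g = c ∨ g = b * c) :
    ∃ f, (f = 1 ∨ f = b ∨ f = c ∨ f = b * c) ∧ (e b * e c = e (b * c) * h f ∨
      e b * e c = e (b * c) * (h f * t)) := by
  have e0 := zcomm H hb hc hk
  have hf := ln _ (cc H x hb hc hk)
  have c0 := ct H x hb hc hk
  have hov := x.toW0.ovr c0
  generalize α (e (b * c) * (e b * e c)) = f at hf hov
  obtain ⟨fJ, f2, fc⟩ : f ∈ F.J ∧ f * f = 1 ∧ f * (b * c) = b * c * f := by
    rcases hf with rfl | rfl | rfl | rfl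
    exacts [⟨one_mem _, by simp, by simp⟩, ⟨H.Zc_mem hb, H.Zc_sq hb, by rw [mul_assoc, e0]⟩,
      ⟨H.Zc_mem hc, H.Zc_sq hc, by rw [← mul_assoc, e0]⟩, ⟨H.Zc_mem hk, H.Zc_sq hk, rfl⟩]
  have fin : ∀ {y o}, o ∈ O → P2 (e (b * c) * y) → y * o = o * y →
      e (b * c) * (e b * e c) = y * o → e b * e c = e (b * c) * y :=
    fun {y o} ho y2 cm hh => by
      have h1 : e b * e c = e (b * c) * y * o := by
        rw [mul_assoc, ← hh, ← mul_assoc, x.e2 _ hk, one_mul]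
      rw [h1, inv_odd y2 ((eO x hk ho).mul_left cm) (eO x hb ho) (x.oddO o ho)
        (h1 ▸ H9.left_inverts (x.e2 _ hb) (x.e2 _ hc)), mul_one]
  have kf := eC x hk fJ fc
  have hf2 := x.sq fJ f2
  obtain ⟨o, ho, hh | hh⟩ := hov fJ
  · exact ⟨f, hf, Or.inl (fin ho ((P2.of_sq (x.e2 _ hk)).mul (P2.of_sq hf2) kf) (x.toW0.hO fJ ho) hh)⟩
  · refine ⟨f, hf, Or.inr (fin ho ?_ (Commute.mul_left (x.toW0.hO fJ ho) (x.Ot o ho).symm :) hh)⟩
    rw [← mul_assoc, kf.eq, mul_assoc]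
    refine (P2.of_sq hf2).mul (P2.of_mul_self ?_) (kf.symm.mul_right (x.toW0.ht fJ))
    rw [show e (b * c) * t * (e (b * c) * t) =
      e (b * c) * t * (e (b * c))⁻¹ * t by rw [ei x hk, mul_assoc _ _ t], x.et _ hk,
      ← x.toW0.ht (H.Zc_mem hk), mul_assoc, x.t2, mul_one]
    exact P2.of_sq (x.sq (H.Zc_mem hk) (H.Zc_sq hk))

theorem tw_cj (H : Fx F) (x : We F t L O α h e) {b c f : X} (hc : F.Zc c) (hk : F.Zc (b * c)) (fJ : f ∈ F.J)
    (f2 : f * f = 1) (fc : f * (b * c) = b * c * f) (hh : e b * e c = e (b * c) * (h f * t)) :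
    e b * e c * e b = h (b * c) * e c := by
  have kJ := H.Zc_mem hk
  refine eq_mul_inv_iff_mul_eq.2 ?_ |>.trans (by rw [ei x hc])
  calc _ = e (b * c) * h f * t * (e (b * c) * h f) * t := by rw [mul_assoc, hh]; group
    _ = h f * (e (b * c) * t * (e (b * c))⁻¹) * h f * t := by
      rw [ei x hk]; conv_lhs => lhs; lhs; rw [(eC x hk fJ fc).eq]
      group
    _ = _ := by
      rw [x.et _ hk, ← x.toW0.ht kJ, ← mul_assoc, x.comm fJ kJ fc, mul_assoc _ t, ← x.toW0.ht fJ, ← mul_assoc,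
        mul_assoc _ (h f) (h f), x.sq fJ f2, mul_one, mul_assoc, x.t2, mul_one]

theorem add_or (H : Fx F) (x : We F t L O α h e) {b c : X} (hb : F.Zc b) (hc : F.Zc c) (hk : F.Zc (b * c))
    (ln : ∃ σ ∈ F.J, σ * b * σ⁻¹ = c ∧ σ * c * σ⁻¹ = b * c)
    (ln2 : ∀ g, F.CC b c g → g = 1 ∨ g = b ∨ g = c ∨ g = b * c) : e b * e c = e (b * c) ∨ e b * e c = e (b * c) * (h b * t) := by
  have e0 := zcomm H hb hc hk
  have ne : b ≠ c := fun q => H.Zc_ne hk (by rw [← q, H.Zc_sq hb])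
  obtain ⟨l, hl, s1, s2⟩ := ln
  have s3 : l * (b * c) * l⁻¹ = b := by rw [← conj_mul, s1, s2, e0, ← mul_assoc, H.Zc_sq hc, one_mul]
  have r : ∀ y, e b * e c = e (b * c) * y → e c * e (b * c) = e b * (h l * y * (h l)⁻¹) := fun y hh => by
    have := congrArg (fun g => h l * g * (h l)⁻¹) hh
    simp only [← conj_mul, ← x.ecj _ hb l hl, ← x.ecj _ hc l hl, ← x.ecj _ hk l hl, s1, s2, s3] at this
    simpa only [conj_mul] using this
  obtain ⟨f, hf, hh⟩ := shape H x hb hc hk ln2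
  obtain ⟨fJ, f2, fc⟩ : f ∈ F.J ∧ f * f = 1 ∧ f * (b * c) = b * c * f := by
    rcases hf with rfl | rfl | rfl | rfl
    exacts [⟨one_mem _, by simp, by simp⟩, ⟨H.Zc_mem hb, H.Zc_sq hb, by rw [mul_assoc, e0]⟩,
      ⟨H.Zc_mem hc, H.Zc_sq hc, by rw [← mul_assoc, e0]⟩, ⟨H.Zc_mem hk, H.Zc_sq hk, rfl⟩]
  have hf2 := x.sq fJ f2
  have lf : l * f * l⁻¹ ∈ F.J := H.cjJ fJ l
  rcases hh with hh | hh
  · have c1 : e c * e b = e b * e c := by
      rw [← ei x hb, ← ei x hc, ← mul_inv_rev, ei x hb, ei x hc, hh, mul_inv_rev, ei x hk,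
        inv_eq_of_mul_eq_one_left hf2, (eC x hk fJ fc).eq]
    have h2 := r _ hh
    rw [eq_mul_inv_of_mul_eq hh.symm, ← mul_assoc, ← c1, ← mul_assoc, x.e2 _ hc, one_mul, mul_right_inj,
      inv_eq_of_mul_eq_one_left hf2, ← x.cj hl fJ] at h2
    replace h2 := x.hinj fJ lf h2
    rcases hf with rfl | rfl | rfl | rfl
    · exact Or.inl (by rw [hh, x.one, mul_one])
    · exact absurd (h2.trans s1) ne
    · exact absurd (mul_eq_right.1 (h2.trans s2).symm) (H.Zc_ne hb)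
    · exact absurd (mul_eq_left.1 (h2.trans s3)) (H.Zc_ne hc)
  · have h1 := tw_cj H x hc hk fJ f2 fc hh
    have h2 := r _ hh
    have h3 : e c * (e b * e c) = e b * h (b * c) := by
      calc _ = e b * (e b * e c * e b) * e c := by
            rw [← mul_assoc, ← mul_assoc, ← mul_assoc, x.e2 _ hb, one_mul]
        _ = _ := by rw [h1, mul_assoc, mul_assoc, x.e2 _ hc, mul_one]
    rw [eq_mul_inv_of_mul_eq hh.symm, ← mul_assoc, h3, mul_assoc, mul_right_inj, ← conj_mul,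
      x.toW0.cjt (x.hL l hl), mul_inv_rev, x.toW0.ti, inv_eq_of_mul_eq_one_left hf2, ← x.toW0.ht fJ, ← mul_assoc,
      mul_left_inj, ← x.cj hl fJ, ← x.mul (H.Zc_mem hk) fJ] at h2
    replace h2 := x.hinj (mul_mem (H.Zc_mem hk) fJ) lf h2
    rcases hf with rfl | rfl | rfl | rfl
    · exact absurd (by simpa using h2) (H.Zc_ne hk)
    · exact Or.inr hh
    · exact absurd (mul_eq_left.1 (h2.trans s2)) (H.Zc_ne hc)
    · exact absurd ((H.Zc_sq hk).symm.trans (h2.trans s3)).symm (H.Zc_ne hb)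

end D1

variable [Finite X] [Finite G]

/-- the dichotomy -/
theorem We.dich (H : Fx F) (x : We F t L O α h e) : (∀ a c, F.Ty a c → e a * e c = e (a * c)) ∨
    ∀ a c, F.Ty a c → e a * e c = e (a * c) * (h a * t) := by
  refine (D1.add_or H x Dy.Zz H.Zq H.Zzq H.sg fun g => H.ccW).imp (fun k a c y => ?_) fun k a c y => ?_ <;>
    obtain ⟨j, hj, rfl, rfl⟩ := H.TyJ y
  · rw [conj_mul, x.ecj _ Dy.Zz j hj, x.ecj _ H.Zq j hj, x.ecj _ H.Zzq j hj, conj_mul, k]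
  · rw [conj_mul, x.ecj _ Dy.Zz j hj, x.ecj _ H.Zq j hj, x.ecj _ H.Zzq j hj, conj_mul, k, x.cj hj H.zJ,
      ← x.toW0.cjt (x.hL j hj)]
    nth_rw 1 [x.toW0.cjt (x.hL j hj)]
    group

end H79.JS
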