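import Cfsg.Agent.Lib.JS.F2b

set_option autoImplicit false
set_option linter.unusedSectionVars false

namespace H79.JS

open Subgroup H69 H36.SW
open H48.SM (Pf)
open scoped commutatorElement

variable {X : Type} [Group X] [Finite X] {G : Type*} [Group G] [Finite G] {F : Dy X}
variable {t : G} {L O A V Y I S : Subgroup G} {α : G → X} {h e : X → G}

open F0 F2 H43.SW in
theorem F2.caseB (H : Fx F) {e : H43.SW.E2 F.J F.T G} {z1 b1 z2 b2 : G} {R1 R2 : Subgroup G}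
    (hS : IsSylowIn 2 (e.T1 ⊔ e.T2) e.G0) (d1 : F0.Sd e z1 b1 R1) (d2 : F0.Sd e.symm z2 b2 R2)
    (n : ∀ g ∈ e.G0, g * z1 * g⁻¹ ≠ b1) {g : G} (hg : g ∈ e.G0) : g * (b1 * z2) * g⁻¹ ≠ b1 := by
  intro h
  have QT := sup_le_sup_right d1.RT e.T2
  have KS' : ∀ m ∈ e.G0, (R1 ⊔ e.T2) ^ᶜ m ≤ e.T1 ⊔ e.T2 →
      m * z2 * m⁻¹ = z2 ∧ ∀ a ∈ e.T2, ∃ b ∈ e.T1, a * b ∈ e.T2 ^ᶜ m := fun m hm h => by
    rw [sup_comm e.T1] at h
    obtain ⟨h1, -, h2⟩ := KS (e.sS' hS) d2 d1 hm ((cj_mono m le_sup_right).trans h)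
      ((cj_mono m le_sup_left).trans h) (cj_cc (fun a ha b hb => (e.cT (d1.RT hb) ha).symm) m)
      (by rw [card_cj]; exact d1.R4)
    exact ⟨h1, h2⟩
  obtain ⟨k, hk, h1, h2⟩ := ext (sylB H hS d1 d2 n) hg h (pg12 e d1.RT le_rfl) (QT.trans e.TG) fun a ha => by
    rw [← mul_assoc, sup_cm d1.Rb (fun a ha => (e.cT d1.bT ha).symm) a ha, mul_assoc, mul_assoc,
      c2 d2 a (QT ha)]
  have kb : k * b1 * k⁻¹ = b1 * z2 := by
    rw [← conj_mul, (KS' k hk (h2.trans QT)).1] at h1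
    rw [eq_mul_inv_of_mul_eq h1, inv_eq_of_mul_eq_one_left d2.z2]
  have c : Commute (k ^ 2) b1 := mul_inv_eq_iff_eq_mul.1 (by
    calc _ = k * (k * b1 * k⁻¹) * k⁻¹ := by rw [pow_two]; group
      _ = _ := by rw [kb, h1])
  obtain ⟨m, ⟨r, rfl⟩, p⟩ := exists_odd_P2 k
  have kb' : k ^ (2 * r + 1) * b1 = b1 * z2 * k ^ (2 * r + 1) := by
    rw [← kb, pow_succ', pow_mul, mul_assoc, (c.pow_left r).eq]; group
  obtain ⟨s, hs, hP⟩ := hS.exists_cj_le (IsPGroup.to_sup_of_normal_left' (pg12 e d1.RT le_rfl) p.zpowers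
    (zpowers_le.2 (pow_mem (mem_normalizer_of_cj_le h2) _))) (sup_le (QT.trans e.TG) (zpowers_le.2 (pow_mem hk _)))
  obtain ⟨s1, s2⟩ := KS' s hs ((cj_mono s le_sup_left).trans hP)
  obtain ⟨u, hu, v, hv, l⟩ := e.dec.1 (hP (cj_mem s (mem_sup_left (mem_sup_left d1.bR))))
  obtain ⟨u', hu', v', hv', l'⟩ := e.dec.1 (hP (cj_mem s (mem_sup_right (mem_zpowers _))))
  have vc : v' * v = v * v' := zp_comm d2.zc v' hv' v ((mem_zp d2.z2).2 (d2.fst s2 hv hu fun a ha => by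
    obtain ⟨a, h1, rfl⟩ := mem_cj'.1 ha
    rw [← e.cT hu hv, ← l]
    exact cjc (e.cT d1.bT h1).symm))
  have E : u' * v' * (u * v) = u * v * z2 * (u' * v') := by
    rw [← l, ← l', ← s1, conj_mul, conj_mul, conj_mul, kb']
  have := (e.split' (mul_mem hu' hu) (mul_mem hv' hv) (mul_mem hu hu') (mul_mem (mul_mem hv d2.zT) hv') (by
    calc _ = u' * (u * v') * v := by group
      _ = u * (v * z2 * u') * v' := by rw [e.cT hu hv', ← mul_assoc, mul_assoc _ u, E]; group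
      _ = _ := by rw [← e.cT hu' (mul_mem hv d2.zT)]; group)).2
  rw [vc, mul_left_inj, left_eq_mul] at this
  exact d2.z1 this

namespace F2
open F0 H43.SW
variable (H : Fx F) {e : E2 F.J F.T G} {z1 b1 z2 b2 : G} {R1 R2 : Subgroup G}
  (hS : IsSylowIn 2 (e.T1 ⊔ e.T2) e.G0) (d1 : Sd e z1 b1 R1) (d2 : Sd e.symm z2 b2 R2)
include H hS d1 d2

theorem fusZ {g u v : G} (hg : g ∈ e.G0) (hu : u = 1 ∨ u = z1 ∨ u = b1) (hv : v = z2 ∨ v = b2) :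
    g * (u * v) * g⁻¹ ≠ z1 := fun h => by
  have hQ : IsSylowIn 2 (e.T1 ⊔ e.T2) (e.G0 ⊓ centralizer {z1}) :=
    hS.mono (le_inf e.TG fun a ha => mem_centralizer_singleton_iff.2 (d1.zcT a ha)) inf_le_left
  rcases or_assoc.2 hu with hu | rfl
  · obtain ⟨k, h1, h2, -⟩ := caseA hS d1 d2 hQ le_rfl hg hu hv h
    have k1 : u * v ∈ e.T1 := mul_left_cancel (mul_right_cancel (h1.trans h2.symm)) ▸ d1.zT
    rw [Subgroup.mul_mem_cancel_left _ (hu.elim (· ▸ one_mem _) (· ▸ d1.zT))] at k1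
    rcases hv with rfl | rfl
    exacts [d2.z1 (T12 e k1 d2.zT), d2.b1 (T12 e k1 d2.bT)]
  rcases hv with rfl | rfl
  · exact caseZ H hS d1 d2 hg h
  · have h1 : g⁻¹ * z1 * g⁻¹⁻¹ = u * (e.t * u * e.t) := by rw [d1.tb d2, ← h]; group
    have h2 := tsw e d1.bT h1
    rw [d1.tz d2, ← h1] at h2
    refine n1 hS d1 d2 (mul_mem (inv_mem (tG e (inv_mem hg))) (inv_mem hg)) ?_
    calc _ = (e.t * g⁻¹ * e.t)⁻¹ * (g⁻¹ * z1 * g⁻¹⁻¹) * (e.t * g⁻¹ * e.t) := by group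
      _ = _ := by rw [← h2]; group

theorem fusB (n : ∀ g ∈ e.G0, g * z1 * g⁻¹ ≠ b1) {g u v : G} (hg : g ∈ e.G0)
    (hu : u = 1 ∨ u = z1 ∨ u = b1) (hv : v = z2 ∨ v = b2) : g * (u * v) * g⁻¹ ≠ b1 := fun h => by
  have hQ := sylB H hS d1 d2 n
  have QT := sup_le_sup_right d1.RT e.T2
  have A : ∀ g ∈ e.G0, ∀ u, u = 1 ∨ u = z1 → g * (u * v) * g⁻¹ ≠ b1 := fun g hg u hu h => by
    obtain ⟨k, -, -, h3⟩ := caseA hS d1 d2 hQ QT hg hu hv h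
    refine n 1 (one_mem _) ?_
    rw [one_mul, inv_one, mul_one]
    refine ((d1.cen b1 d1.bT fun a ha => ?_).resolve_left d1.b1).symm
    obtain ⟨c, hc, h4⟩ := h3 a ha
    exact mem_centralizer_singleton_iff.1 ((Subgroup.mul_mem_cancel_right _
      (mem_centralizer_singleton_iff.2 (e.cT d1.bT hc).symm)).1 (hQ.le h4).2)
  rcases or_assoc.2 hu with hu | rfl
  · exact A g hg u hu h
  rcases hv with rfl | rfl
  · exact caseB H hS d1 d2 n hg h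
  · have h1 : g⁻¹ * u * g⁻¹⁻¹ = u * (e.t * u * e.t) := by
      rw [d1.tb d2]
      calc _ = g⁻¹ * (g * (u * v) * g⁻¹) * g := by rw [h]; group
        _ = _ := by group
    have h2 := tsw e d1.bT h1
    rw [← h1, d1.tb d2] at h2
    refine A _ (mul_mem hg (tG e (inv_mem hg))) 1 (Or.inl rfl) ?_
    calc _ = g * (e.t * g⁻¹ * e.t * v * (e.t * g⁻¹ * e.t)⁻¹) * g⁻¹ := by group
      _ = _ := by rw [h2]; group

end F2

theorem Fx.fus1 (H : Fx F) (e : H43.SW.E2 F.J F.T G) (hS : IsSylowIn 2 (e.T1 ⊔ e.T2) e.G0) :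
    ∀ i ∈ e.T1, i * i = 1 → ∀ g ∈ e.G0, g * i * g⁻¹ ∈ e.T1 ⊔ e.T2 → g * i * g⁻¹ ∈ e.T1 := by
  obtain ⟨z1, b1, R1, d1⟩ := F0.exists_sd H e
  obtain ⟨z2, b2, R2, d2⟩ := F0.exists_sd H e.symm
  intro i hi i2 g hg h
  obtain ⟨u, hu, v, hv, l⟩ := e.dec.1 h
  have s := F0.sq_parts e hu hv (l ▸ cjsq i2 g)
  by_contra n
  obtain ⟨k, hk, u', v', h1, h2, h3⟩ := F2.norm d1 d2 (hS.mono (le_inf e.TG fun a ha =>
    mem_centralizer_singleton_iff.2 (d1.zcT a ha)) inf_le_left) le_rfl hg hu hv s.1 s.2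
    fun k => n (by rw [l, k, mul_one]; exact hu)
  have key : ∀ s ∈ e.G0, ∀ w, s * w * s⁻¹ = i → (g * s)⁻¹ * k * (u' * v') * ((g * s)⁻¹ * k)⁻¹ = w :=
    fun s _ w h => by
      calc _ = (g * s)⁻¹ * (k * (u' * v') * k⁻¹) * (g * s) := by group
        _ = _ := by rw [h3, ← l, ← h]; group
  have kZ : ∀ s ∈ e.G0, s * z1 * s⁻¹ ≠ i := fun s hs h =>
    F2.fusZ H hS d1 d2 (mul_mem (inv_mem (mul_mem hg hs)) hk) h1 h2 (key s hs _ h)
  rcases d1.inv i (e.T1A hi) i2 with rfl | ⟨a, ha, h4⟩ | ⟨a, ha, h4⟩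
  · exact n (by rw [mul_one, mul_inv_cancel]; exact one_mem _)
  · exact kZ a (e.le1 ha) h4
  · refine F2.fusB H hS d1 d2 (fun s hs h => kZ _ (mul_mem (e.le1 ha) hs) ?_)
      (mul_mem (inv_mem (mul_mem hg (e.le1 ha))) hk) h1 h2 (key a (e.le1 ha) _ h4)
    rw [← h4, ← h]; group

end H79.JS
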