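import Mathlib
import Cfsg.Agent.Lib.JS.F0

/-! End game, part 2: fusion of involutions in `T1 T2`. -/

set_option autoImplicit false
set_option linter.unusedSectionVars false

namespace H79.JS

open Subgroup H69 H36.SW
open H43.SW (E2 sup_cm zp_comm zp_cm burn)
open scoped commutatorElement

variable {X : Type} [Group X] [Finite X] {G : Type*} [Group G] [Finite G] {F : Dy X}

namespace F2

open F0

theorem exists_z2 {T : Subgroup G} (p : IsPGroup 2 T) {z : G} (zc : ∀ a ∈ T, a * z = z * a)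
    (h : ¬ T ≤ zpowers z) : ∃ x ∈ T, x ∉ zpowers z ∧ ∀ τ ∈ T, ⁅x, τ⁆ ∈ zpowers z := by
  have n : ((zpowers z).subgroupOf T).Normal := ⟨fun x hx g => by
    show ((g : G) * x * (g : G)⁻¹) ∈ zpowers z
    rw [zp_comm zc g g.2 x hx, mul_inv_cancel_right]; exact hx⟩
  have : Nontrivial (T ⧸ (zpowers z).subgroupOf T) :=
    QuotientGroup.nontrivial_iff.2 (mt subgroupOf_eq_top.1 h)
  have := (p.to_quotient ((zpowers z).subgroupOf T)).center_nontrivial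
  obtain ⟨⟨q, hq⟩, q1⟩ := exists_ne (1 : center (T ⧸ (zpowers z).subgroupOf T))
  obtain ⟨x, rfl⟩ := QuotientGroup.mk_surjective q
  refine ⟨x, x.2, fun h => q1 (Subtype.ext ((QuotientGroup.eq_one_iff x).2 h)), fun τ hτ => ?_⟩
  exact (QuotientGroup.eq_one_iff (N := (zpowers z).subgroupOf T) ⁅x, (⟨τ, hτ⟩ : T)⁆).1
    ((map_commutatorElement (QuotientGroup.mk' _) _ _).trans
      (commutatorElement_eq_one_iff_mul_comm.2 (mem_center_iff.1 hq _).symm))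

theorem ext {L Q P : Subgroup G} {y w g : G} (hQ : IsSylowIn 2 Q (L ⊓ centralizer {w})) (hg : g ∈ L)
    (h : g * y * g⁻¹ = w) (hP : IsPGroup 2 P) (PL : P ≤ L) (c : ∀ a ∈ P, a * y = y * a) :
    ∃ k ∈ L, k * y * k⁻¹ = w ∧ P ^ᶜ k ≤ Q := by
  obtain ⟨s, hs, k⟩ := hQ.exists_cj_le (isPGroup_cj hP g) (le_inf (cj_le_of_mem PL hg) (by
    rw [← h, ← H69.cj_centralizer_singleton]
    exact cj_mono g fun a ha => mem_centralizer_singleton_iff.2 (c a ha)))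
  refine ⟨s * g, mul_mem hs.1 hg, ?_, by rwa [← cj_cj]⟩
  calc _ = s * (g * y * g⁻¹) * s⁻¹ := by group
    _ = _ := by rw [h, mem_centralizer_singleton_iff.1 hs.2, mul_inv_cancel_right]

theorem nT1 {J T : Subgroup X} (e : E2 J T G) : e.T1 ⊔ e.T2 ≤ 𝐍(e.T1) :=
  sup_le le_normalizer (le_normalizer_of_le_centralizer fun _ ha _ hb => e.cT hb ha)

theorem nT2 {J T : Subgroup X} (e : E2 J T G) : e.T1 ⊔ e.T2 ≤ 𝐍(e.T2) :=
  sup_le (le_normalizer_of_le_centralizer fun _ ha _ hb => (e.cT ha hb).symm) le_normalizer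

theorem pg12 {J T : Subgroup X} (e : E2 J T G) {P Q : Subgroup G} (hP : P ≤ e.T1) (hQ : Q ≤ e.T2) :
    IsPGroup 2 (P ⊔ Q : Subgroup G) := (pT0 e).to_le (sup_le_sup hP hQ)

theorem cj_cc {P Q : Subgroup G} (c : ∀ a ∈ P, ∀ b ∈ Q, a * b = b * a) (k : G) :
    ∀ b ∈ Q ^ᶜ k, ∀ a ∈ P ^ᶜ k, a * b = b * a := fun b hb a ha => by
  obtain ⟨a, h1, rfl⟩ := mem_cj'.1 ha
  obtain ⟨b, h2, rfl⟩ := mem_cj'.1 hb
  exact cjc (c a h1 b h2)

theorem tsw {J T : Subgroup X} (e : E2 J T G) {g x a : G} (ha : a ∈ e.T1)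
    (h : g * x * g⁻¹ = a * (e.t * a * e.t)) :
    e.t * g * e.t * (e.t * x * e.t) * (e.t * g * e.t)⁻¹ = a * (e.t * a * e.t) := by
  calc _ = e.t * (g * (e.t * (e.t * x)) * g⁻¹) * e.t⁻¹ := by group
    _ = e.t * a * e.t * (a * e.t * e.t⁻¹) := by rw [e.tt, h]; group
    _ = _ := by rw [mul_inv_cancel_right, e.cT ha (e.tT1 ha)]

theorem tG {J T : Subgroup X} (e : E2 J T G) {g : G} (hg : g ∈ e.G0) : e.t * g * e.t ∈ e.G0 := by
  have := e.n0.conj_mem g hg e.t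
  rwa [e.ti] at this

variable {e : E2 F.J F.T G} {z1 b1 z2 b2 : G} {R1 R2 : Subgroup G}
  (hS : IsSylowIn 2 (e.T1 ⊔ e.T2) e.G0) (d1 : Sd e z1 b1 R1) (d2 : Sd e.symm z2 b2 R2)
include hS d1 d2

omit hS d1 in
theorem c2 : ∀ a ∈ e.T1 ⊔ e.T2, a * z2 = z2 * a := fun a ha => d2.zcT a (sup_comm e.T1 e.T2 ▸ ha)

theorem n12 {g : G} (hg : g ∈ e.G0) : g * z1 * g⁻¹ ≠ z1 * z2 := fun h => by
  obtain ⟨σ, -, σN, k⟩ := burn hS hg d1.zcT fun a ha => by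
    rw [h, ← mul_assoc, d1.zcT a ha, mul_assoc, c2 d2 a ha, mul_assoc]
  rw [h] at k
  obtain ⟨x, hx, x1, hc⟩ := exists_z2 (pT1 e) d1.zc fun h => by
    have := card_le_of_le (d1.RT.trans h)
    have := d1.R4
    rw [card_zp d1.z2 d1.z1] at *
    omega
  have hy := conj_mem_of_mem_normalizer σN (mem_sup_left hx)
  have key : ∀ τ ∈ e.T1 ⊔ e.T2, ⁅σ * x * σ⁻¹, τ⁆ = 1 ∨ ⁅σ * x * σ⁻¹, τ⁆ = z1 * z2 := fun τ hτ => by
    obtain ⟨a, ha, b, hb, l⟩ := e.dec.1 (conj_mem_of_mem_normalizer' σN hτ)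
    have l' : ⁅σ * x * σ⁻¹, τ⁆ = σ * ⁅x, a⁆ * σ⁻¹ := by
      rw [← cmt_parts e (one_mem _) ha hx hb (by simp), mul_one, ← l]
      simp only [commutatorElement_def]; group
    rw [l', ← k]
    exact ((mem_zp d1.z2).1 (hc a ha)).imp (fun h => by rw [h]; group) fun h => by rw [h]
  have k1 : ∀ a ∈ e.T1, a * (σ * x * σ⁻¹) = σ * x * σ⁻¹ * a := fun a ha =>
    (commutatorElement_eq_one_iff_mul_comm.1 ((key a (mem_sup_left ha)).resolve_right fun h =>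
      d2.z1 (T12 e ((Subgroup.mul_mem_cancel_left _ d1.zT).1 (h ▸ mul_mem
        (conj_mem_of_mem_normalizer (nT1 e hy) ha) (inv_mem ha))) d2.zT))).symm
  have k2 : ∀ a ∈ e.T2, a * (σ * x * σ⁻¹) = σ * x * σ⁻¹ * a := fun a ha =>
    (commutatorElement_eq_one_iff_mul_comm.1 ((key a (mem_sup_right ha)).resolve_right fun h =>
      d1.z1 (T12 e d1.zT ((Subgroup.mul_mem_cancel_right _ d2.zT).1 (h ▸ mul_mem
        (conj_mem_of_mem_normalizer (nT2 e hy) ha) (inv_mem ha)))))).symm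
  refine x1 ((mem_zp d1.z2).2 (d1.cen x hx fun c hc => ?_))
  calc _ = σ⁻¹ * (σ * c * σ⁻¹ * (σ * x * σ⁻¹)) * σ := by group
    _ = _ := by
      rw [sup_cm k1 k2 _ (conj_mem_of_mem_normalizer σN (mem_sup_left hc))]; group

theorem n1 {g : G} (hg : g ∈ e.G0) : g * z1 * g⁻¹ ≠ z2 := fun h => by
  have c1 := d1.zcT
  have c2 := c2 d2
  have ne : z1 ≠ z2 := fun k => d1.z1 (T12 e d1.zT (k ▸ d2.zT))
  obtain ⟨σ, σG, σN, k⟩ := burn hS hg c1 fun a ha => by rw [h, c2 a ha]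
  rw [h] at k
  have k2 : σ * z2 * σ⁻¹ = z1 := by
    obtain ⟨u, hu, v, hv, l⟩ := e.dec.1 (conj_mem_of_mem_normalizer σN (mem_sup_right d2.zT))
    have c : ∀ a ∈ e.T1 ⊔ e.T2, a * (u * v) = u * v * a := fun a ha => by
      rw [← l]
      calc _ = σ * (σ⁻¹ * a * σ * z2) * σ⁻¹ := by group
        _ = _ := by rw [c2 _ (conj_mem_of_mem_normalizer' σN ha)]; group
    rcases d1.cen u hu fun a ha => mul_right_cancel (b := v) (by
      rw [mul_assoc, c a (mem_sup_left ha), mul_assoc, mul_assoc, e.cT ha hv]) with hu' | hu' <;>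
    rcases d2.cen v hv fun a ha => mul_left_cancel (a := u) (by
      rw [← mul_assoc, e.cT hu ha, mul_assoc, c a (mem_sup_right ha), mul_assoc]) with hv' | hv' <;>
    rw [hu', hv'] at l
    · exact absurd (by simpa using l) (cjne d2.z1 σ)
    · rw [one_mul] at l
      exact absurd (mul_left_cancel (mul_right_cancel (k.trans l.symm))) ne
    · rwa [mul_one] at l
    · exact absurd (l.trans (e.cT d1.zT d2.zT)) (n12 (e.sS' hS) d2 d1 σG)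
  obtain ⟨m, ⟨r, rfl⟩, p⟩ := exists_odd_P2 σ
  have mT := hS.le_of_le_normalizer' p.zpowers (zpowers_le.2 (pow_mem σG _))
    (zpowers_le.2 (pow_mem σN _)) (mem_zpowers _)
  have c : Commute (σ ^ 2) z1 := mul_inv_eq_iff_eq_mul.1 (by
    calc _ = σ * (σ * z1 * σ⁻¹) * σ⁻¹ := by rw [pow_two]; group
      _ = _ := by rw [k, k2])
  refine ne (Eq.trans ?_ k)
  have := c1 _ mT
  rw [pow_succ', pow_mul, mul_assoc, (c.pow_left r).eq, ← mul_assoc, ← mul_assoc] at this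
  rw [mul_right_cancel this, mul_inv_cancel_right]

theorem KS {k : G} (hk : k ∈ e.G0) (hU : e.T1 ^ᶜ k ≤ e.T1 ⊔ e.T2) {V : Subgroup G}
    (hV : V ≤ e.T1 ⊔ e.T2) (c : ∀ v ∈ V, ∀ u ∈ e.T1 ^ᶜ k, u * v = v * u) (h4 : 4 < Nat.card V) :
    k * z1 * k⁻¹ = z1 ∧ ⁅V, V⁆ ≤ e.T2 ∧ ∀ a ∈ e.T1, ∃ b ∈ e.T2, a * b ∈ e.T1 ^ᶜ k := by
  have pU := isPGroup_cj (pT1 e) k
  have cU : Nat.card F.T ≤ Nat.card (e.T1 ^ᶜ k) := by rw [card_cj, card1 e]
  have w1 := cjne d1.z1 k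
  have wc : ∀ a ∈ e.T1 ^ᶜ k, a * (k * z1 * k⁻¹) = k * z1 * k⁻¹ * a := fun a ha => by
    obtain ⟨a, h1, rfl⟩ := mem_cj'.1 ha
    exact cjc (d1.zc a h1)
  have inN : ∀ N : Subgroup G, e.T1 ⊔ e.T2 ≤ 𝐍(N) → (¬ ∀ u ∈ e.T1 ^ᶜ k, u ∈ N → u = 1) →
      k * z1 * k⁻¹ ∈ N := fun N hN h => by
    obtain ⟨⟨x, hx⟩, x1⟩ := ne_bot_iff_exists_ne_one.1 (inf_centralizer_ne_bot
      (R := e.T1 ^ᶜ k ⊓ N) pU.to_inf_left pU (le_normalizer_inf le_normalizer (hU.trans hN))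
      fun h0 => h fun u h1 h2 => (eq_bot_iff_forall _).1 h0 u ⟨h1, h2⟩)
    obtain ⟨a, ha, rfl⟩ := mem_cj'.1 hx.1.1
    rcases d1.cen a ha fun b hb => by
      have := hx.2 _ (cj_mem k hb)
      calc _ = k⁻¹ * (k * b * k⁻¹ * (k * a * k⁻¹)) * k := by group
        _ = _ := by rw [this]; group
      with rfl | rfl
    · exact absurd (Subtype.ext (by simp)) x1
    · exact hx.1.2
  have s2 := fun h a => proj e.symm (sup_comm e.T1 e.T2 ▸ hU) cU h (a := a)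
  by_cases h2 : ∀ u ∈ e.T1 ^ᶜ k, u ∈ e.T2 → u = 1
  · have p1 := fun a ha => proj e hU cU h2 (a := a) ha
    have f1 : ∀ u ∈ e.T1, ∀ v ∈ e.T2, u * v ∈ V → u ∈ zpowers z1 := fun u hu v hv h =>
      (mem_zp d1.z2).2 (d1.fst p1 hu hv (c _ h))
    by_cases h1 : ∀ u ∈ e.T1 ^ᶜ k, u ∈ e.T1 → u = 1
    · have : V ≤ zpowers z1 ⊔ zpowers z2 := fun x hx => by
        obtain ⟨u, hu, v, hv, rfl⟩ := e.dec.1 (hV hx)
        exact mul_mem_sup (f1 u hu v hv hx) ((mem_zp d2.z2).2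
          (d2.fst (s2 h1) hv hu (e.cT hu hv ▸ c _ hx)))
      have := card_le_of_le this
      rw [card_sup_comm (zp_comm (zp_cm (e.cT d1.zT d2.zT))) fun a h1 h2 =>
        T12 e (zpowers_le.2 d1.zT h1) (zpowers_le.2 d2.zT h2), card_zp d1.z2 d1.z1,
        card_zp d2.z2 d2.z1] at this
      omega
    · refine ⟨(d1.fst p1 (inN _ (nT1 e) h1) (one_mem _) (by simpa only [mul_one] using wc)).resolve_left w1,
        commutator_le.2 fun x hx y hy => ?_, p1⟩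
      obtain ⟨u, hu, v, hv, rfl⟩ := e.dec.1 (hV hx)
      obtain ⟨u', hu', v', hv', rfl⟩ := e.dec.1 (hV hy)
      rw [e.cT hu hv, e.cT hu' hv', cmt_parts e.symm hu hv' hv hu'
        (zp_comm d1.zc u hu u' (f1 u' hu' v' hv' hy))]
      exact commutator_le_of_le le_rfl le_rfl (commutator_mem_commutator hv hv')
  · have w2 := inN _ (nT2 e) h2
    by_cases h1 : ∀ u ∈ e.T1 ^ᶜ k, u ∈ e.T1 → u = 1
    · exact absurd ((d2.fst (s2 h1) w2 (one_mem _)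
        (by simpa only [mul_one] using wc)).resolve_left w1) (n1 hS d1 d2 hk)
    · exact absurd (T12 e (inN _ (nT1 e) h1) w2) w1

variable {Q : Subgroup G} {w g : G} (hQ : IsSylowIn 2 Q (e.G0 ⊓ centralizer {w}))
  (QT : Q ≤ e.T1 ⊔ e.T2) (hg : g ∈ e.G0)
include hQ QT hg

theorem caseA {u v : G} (hu : u = 1 ∨ u = z1) (hv : v = z2 ∨ v = b2) (h : g * (u * v) * g⁻¹ = w) :
    ∃ k, k * (u * v) * k⁻¹ = w ∧ k * z1 * k⁻¹ = z1 ∧ ∀ a ∈ e.T1, ∃ b ∈ e.T2, a * b ∈ Q := by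
  have v2 : v ∈ e.T2 := hv.elim (· ▸ d2.zT) (· ▸ d2.bT)
  have uc : ∀ a ∈ e.T1 ⊔ e.T2, a * u = u * a := fun a ha =>
    zp_comm d1.zcT a ha u ((mem_zp d1.z2).2 hu)
  obtain ⟨k, hk, h1, h2⟩ := ext hQ hg h (pg12 e le_rfl d2.RT) ((sup_le_sup_left d2.RT _).trans e.TG)
    fun a ha => by
      rw [← mul_assoc, uc a (sup_le_sup_left d2.RT _ ha), mul_assoc, mul_assoc,
        sup_cm (fun a ha => e.cT ha v2) (fun a ha => hv.elim (· ▸ d2.zc a (d2.RT ha))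
          (· ▸ d2.Rb a ha)) a ha]
  have hU := (cj_mono k le_sup_left).trans h2
  obtain ⟨k1, -, k3⟩ := KS hS d1 d2 hk (hU.trans QT) (((cj_mono k le_sup_right).trans h2).trans QT)
    (cj_cc (fun a ha b hb => e.cT ha (d2.RT hb)) k) (by rw [card_cj]; exact d2.R4)
  exact ⟨k, h1, k1, fun a ha => let ⟨b, hb, h⟩ := k3 a ha; ⟨b, hb, hU h⟩⟩

omit hS in
theorem norm {u v : G} (hu : u ∈ e.T1) (hv : v ∈ e.T2) (u2 : u * u = 1) (v2 : v * v = 1)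
    (v1 : v ≠ 1) : ∃ g ∈ e.G0, ∃ u' v', (u' = 1 ∨ u' = z1 ∨ u' = b1) ∧ (v' = z2 ∨ v' = b2) ∧
      g * (u' * v') * g⁻¹ = u * v := by
  obtain ⟨a, ha, u', h1, uA, rfl⟩ : ∃ a ∈ e.A, ∃ u', (u' = 1 ∨ u' = z1 ∨ u' = b1) ∧ u' ∈ e.A ∧
      a * u' * a⁻¹ = u := by
    rcases d1.inv u (e.T1A hu) u2 with rfl | ⟨a, ha, h⟩ | ⟨a, ha, h⟩
    exacts [⟨1, one_mem _, 1, Or.inl rfl, one_mem _, by simp⟩,
      ⟨a, ha, _, Or.inr (Or.inl rfl), e.T1A d1.zT, h⟩, ⟨a, ha, _, Or.inr (Or.inr rfl), e.T1A d1.bT, h⟩]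
  obtain ⟨b, hb, v', h2, vB, rfl⟩ : ∃ b ∈ e.B, ∃ v', (v' = z2 ∨ v' = b2) ∧ v' ∈ e.B ∧
      b * v' * b⁻¹ = v := by
    rcases d2.inv v (e.T2B hv) v2 with h | ⟨a, ha, h⟩ | ⟨a, ha, h⟩
    exacts [absurd h v1, ⟨a, ha, _, Or.inl rfl, e.T2B d2.zT, h⟩,
      ⟨a, ha, _, Or.inr rfl, e.T2B d2.bT, h⟩]
  refine ⟨a * b, mul_mem (e.le1 ha) (e.le2 hb), u', v', h1, h2, ?_⟩
  calc _ = a * (b * u') * (v' * b⁻¹) * a⁻¹ := by group
    _ = a * u' * ((b * v' * b⁻¹) * a⁻¹) := by rw [← e.comm u' uA b hb]; group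
    _ = _ := by
      rw [← e.comm _ (inv_mem ha) _ (mul_mem (mul_mem hb vB) (inv_mem hb))]; group

end F2

end H79.JS
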