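import Cfsg.Agent.Lib.JS.F2a

set_option autoImplicit false
set_option linter.unusedSectionVars false

namespace H79.JS

open Subgroup H69 H36.SW
open H48.SM (Pf)
open scoped commutatorElement

variable {X : Type} [Group X] [Finite X] {G : Type*} [Group G] [Finite G] {F : Dy X}
variable {t : G} {L O A V Y I S : Subgroup G} {α : G → X} {h e : X → G}

namespace F2b

open F0 F2
open H43.SW (E2 sup_cm)

theorem cardW (H : Fx F) : Nat.card F.W ≤ 4 := by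
  classical
  have : (F.W : Set X) = ↑({1, F.z, F.q, F.z * F.q} : Finset X) := Set.ext fun x => by simpa using H.mem_W
  rw [← SetLike.coe_sort_coe, this, Nat.card_coe_set_eq, Set.ncard_coe_finset]
  exact Finset.card_le_four

theorem cls (H : Fx F) {E : Subgroup X} (hE : E ≤ F.T) (h2 : ∀ x ∈ E, x * x = 1) (c : 16 ≤ Nat.card E) {y : X}
    (hy : y ∈ E) : y ∈ F.W ∨ F.Bc y := by
  rcases H.e16 E hE h2 c with rfl | rfl
  · exact or_iff_not_imp_left.2 (H.RB y hy)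
  obtain ⟨r, hr, rfl⟩ := mem_cj'.1 hy
  refine (or_iff_not_imp_left.2 (H.RB r hr)).imp (fun w => ?_) fun b => b.cj H.aJ
  have a : F.a * F.z * F.a⁻¹ ∈ F.W := by rw [H.cT _ (Dy.TTs H.aT), mul_inv_cancel_right]; exact Dy.zW
  have b : F.a * F.q * F.a⁻¹ ∈ F.W := by
    rw [inv_eq_of_mul_eq_one_right H.a2, H.aq]; exact mul_mem Dy.qW Dy.zW
  rcases H.mem_W.1 w with rfl | rfl | rfl | rfl
  exacts [by simp, a, b, by rw [← conj_mul]; exact mul_mem a b]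

variable {e : E2 F.J F.T G} {z1 b1 z2 b2 : G} {R1 R2 : Subgroup G}

theorem lift {u v : G} (hu : u ∈ e.T1) (hv : v ∈ e.T1) (h : ∃ j ∈ F.J, j * e.β1 v * j⁻¹ = e.β1 u) :
    ∃ a ∈ e.A, a * v * a⁻¹ = u := by
  obtain ⟨j, hj, h⟩ := h
  obtain ⟨a, ha, rfl⟩ := e.c1.onto j hj
  exact ⟨a, ha, e.c1.conj_eq (le_normalizer ha) (e.T1A hv) (e.T1A hu) (P1 e hv) (P1 e hu) h⟩

/-- the lift of `W` -/
def LW (e : E2 F.J F.T G) : Subgroup G := e.T1 ⊓ e.c1.pre F.W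

theorem mW {a : G} : a ∈ LW e ↔ a ∈ e.T1 ∧ e.β1 a ∈ F.W :=
  ⟨fun h => ⟨h.1, (e.c1.mem_pre.1 h.2).2⟩, fun h => ⟨h.1, e.c1.mem_pre.2 ⟨N1 e h.1, h.2⟩⟩⟩

theorem cardW1 (H : Fx F) : Nat.card (LW e) ≤ 4 := by
  rw [card_inj e (U := LW e) (inf_le_left.trans le_sup_left) fun u h => T12 e h.1]
  refine (card_le_of_le ?_).trans (cardW H)
  intro x hx
  obtain ⟨a, ha, -, rfl⟩ := e.c1.mem_im.1 hx
  exact (mW.1 ha).2

variable (H : Fx F) (hS : IsSylowIn 2 (e.T1 ⊔ e.T2) e.G0) (d1 : Sd e z1 b1 R1) (d2 : Sd e.symm z2 b2 R2)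
include H d1

theorem liftB {u : G} (hu : u ∈ e.T1) (h : F.Bc (e.β1 u)) : ∃ a ∈ e.A, a * b1 * a⁻¹ = u :=
  lift hu d1.bT (d1.βb ▸ h)

theorem liftZ {u : G} (hu : u ∈ LW e) (h : u ≠ 1) : ∃ a ∈ e.A, a * z1 * a⁻¹ = u :=
  lift hu.1 d1.zT (d1.βz ▸ H.Zw (mW.1 hu).2 fun k => h (eq1 e hu.1 (one_mem _) (k.trans e.c1.one.symm)))

theorem inP (n : ∀ g ∈ e.G0, g * z1 * g⁻¹ ≠ b1) {k g : G} (hk : k ∈ e.G0) (hg : g ∈ e.G0)
    (h : g * z1 * g⁻¹ ∈ R1 ^ᶜ k) : g * z1 * g⁻¹ ∈ LW e ^ᶜ k := by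
  obtain ⟨r, hr, l⟩ := mem_cj'.1 h
  obtain ⟨r1, r2⟩ := (d1.mR r).1 hr
  refine l ▸ cj_mem k (mW.2 ⟨r1, by_contra fun w => ?_⟩)
  obtain ⟨a, ha, m⟩ := liftB H d1 r1 (H.RB _ r2 w)
  refine n _ (mul_mem (inv_mem (mul_mem hk (e.le1 ha))) hg) ?_
  calc _ = a⁻¹ * (k⁻¹ * (g * z1 * g⁻¹) * k) * a := by group
    _ = _ := by rw [l, ← m]; group

include hS d2

theorem common {k : G} (hk : k ∈ e.G0) (h : (R1 ⊔ e.T2) ^ᶜ k ≤ e.T1 ⊔ e.T2) :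
    k * z2 * k⁻¹ = z2 ∧ z2 ∉ R1 ^ᶜ k ∧ 16 ≤ Nat.card (e.c1.im (R1 ^ᶜ k)) ∧
      (∀ x ∈ R1 ^ᶜ k, ∃ u ∈ e.T1, x = u ∨ x = u * z2) ∧
      ∀ u ∈ e.T1, (u ∈ R1 ^ᶜ k ∨ u * z2 ∈ R1 ^ᶜ k) → u ∈ LW e ∨ ∃ a ∈ e.A, a * b1 * a⁻¹ = u := by
  have hV := (cj_mono k le_sup_left).trans h
  have cc := cj_cc (fun a ha b hb => (e.cT (d1.RT hb) ha).symm) k
  rw [sup_comm e.T1] at h
  obtain ⟨h1, -, h3⟩ := KS (e.sS' hS) d2 d1 hk ((cj_mono k le_sup_right).trans h)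
    ((cj_mono k le_sup_left).trans h) cc (by rw [card_cj]; exact d1.R4)
  have nz : z2 ∉ R1 ^ᶜ k := fun m => by
    obtain ⟨r, hr, l⟩ := mem_cj'.1 m
    exact d2.z1 (T12 e (cj_inj'.1 (h1.trans l) ▸ d1.RT hr) d2.zT)
  have f : ∀ u ∈ e.T1, ∀ v ∈ e.T2, u * v ∈ R1 ^ᶜ k → v = 1 ∨ v = z2 := fun u hu v hv m =>
    d2.fst h3 hv hu (e.cT hu hv ▸ cc _ m)
  have c16 : 16 ≤ Nat.card (e.c1.im (R1 ^ᶜ k)) := by
    rw [← card_inj e hV fun v m hv => (f 1 (one_mem _) v hv (by rwa [one_mul])).resolve_right fun l => nz (l ▸ m),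
      card_cj, card_inj e (d1.RT.trans le_sup_left) fun u m => T12 e (d1.RT m), ← H.cardR]
    refine card_le_of_le fun x hx => ?_
    obtain ⟨a, ha, rfl⟩ := e.lift1 (H.RT hx)
    exact e.c1.mem_im.2 ⟨a, (d1.mR a).2 ⟨ha, hx⟩, N1 e ha, rfl⟩
  have N : ∀ x ∈ R1 ^ᶜ k, x ∈ 𝐍(e.A) := fun x m => e.N1 (e.T0 (hV m))
  refine ⟨h1, nz, c16, fun x m => ?_, fun u hu m => ?_⟩
  · obtain ⟨u, hu, v, hv, rfl⟩ := e.dec.1 (hV m)
    exact ⟨u, hu, (f u hu v hv m).imp (fun l => by rw [l, mul_one]) fun l => by rw [l]⟩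
  refine (cls H (im_le e hV) (fun y hy => ?_) c16 (y := e.β1 u) ?_).imp (fun w => mW.2 ⟨hu, w⟩) (liftB H d1 hu)
  · obtain ⟨x, hx, xN, rfl⟩ := e.c1.mem_im.1 hy
    obtain ⟨r, hr, rfl⟩ := mem_cj'.1 hx
    obtain ⟨r1, r2⟩ := (d1.mR r).1 hr
    exact e.c1.sq xN (cjsq (eq1 e (mul_mem r1 r1) (one_mem _) (by
      rw [e.c1.mul' (e.T1A r1) (e.T1A r1), H.R2 _ r2, e.c1.one])) k)
  · exact m.elim (fun m => e.c1.mem_im.2 ⟨_, m, N _ m, rfl⟩) fun m =>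
      e.c1.mem_im.2 ⟨_, m, N _ m, e.b1 (e.T1A hu) (e.T2B d2.zT)⟩

omit H hS d1 in
theorem cjz {a x : G} (ha : a ∈ e.A) : a * (x * z2) * a⁻¹ = a * x * a⁻¹ * z2 := by
  rw [← conj_mul, e.comm a ha z2 (e.T2B d2.zT), mul_inv_cancel_right]

end F2b

open F0 F2b in
theorem F2.caseZ (H : Fx F) {e : H43.SW.E2 F.J F.T G} {z1 b1 z2 b2 : G} {R1 R2 : Subgroup G}
    (hS : IsSylowIn 2 (e.T1 ⊔ e.T2) e.G0) (d1 : F0.Sd e z1 b1 R1) (d2 : F0.Sd e.symm z2 b2 R2)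
    {g : G} (hg : g ∈ e.G0) : g * (b1 * z2) * g⁻¹ ≠ z1 := by
  intro h
  have hQ : IsSylowIn 2 (e.T1 ⊔ e.T2) (e.G0 ⊓ centralizer {z1}) :=
    hS.mono (le_inf e.TG fun a ha => mem_centralizer_singleton_iff.2 (d1.zcT a ha)) inf_le_left
  obtain ⟨k, hk, h1, h2⟩ := F2.ext hQ hg h (F2.pg12 e d1.RT le_rfl) ((sup_le_sup_right d1.RT _).trans e.TG)
    fun a ha => by
      rw [← mul_assoc, H43.SW.sup_cm d1.Rb (fun a ha => (e.cT d1.bT ha).symm) a ha, mul_assoc, mul_assoc,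
        F2.c2 d2 a (sup_le_sup_right d1.RT _ ha)]
  obtain ⟨k1, -, c16, dec, cl⟩ := common H hS d1 d2 hk h2
  have x0 : k * b1 * k⁻¹ = z1 * z2 := by rw [← h1, ← conj_mul, k1, mul_assoc _ z2, d2.z2, mul_one]
  have n : ∀ g ∈ e.G0, g * z1 * g⁻¹ ≠ b1 := fun g hg l =>
    F2.n12 hS d1 d2 (mul_mem hk hg) (by rw [← x0, ← l]; group)
  have N : R1 ^ᶜ k ≤ 𝐍(e.A) := fun x m => e.N1 (e.T0 (h2 (cj_mono k le_sup_left m)))
  have WR : LW e ^ᶜ k ≤ R1 ^ᶜ k := cj_mono k fun a ha => (d1.mR a).2 ⟨ha.1, H.WR (mW.1 ha).2⟩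
  have key : ∀ u ∈ e.T1, u * z2 ∈ R1 ^ᶜ k → e.β1 u ∈ F.W ∨ e.β1 u ∈ e.c1.im (LW e ^ᶜ k) := fun u hu m =>
    (cl u hu (.inr m)).imp (fun w => (mW.1 w).2) fun ⟨a, ha, l⟩ => by
      have q : a * k⁻¹ * z1 * (a * k⁻¹)⁻¹ = u * z2 := by rw [← l, ← cjz d2 ha, ← h1]; group
      exact e.c1.mem_im.2 ⟨_, q ▸ inP H d1 n hk (mul_mem (e.le1 ha) (inv_mem hk)) (q ▸ m), N m,
        e.b1 (e.T1A hu) (e.T2B d2.zT)⟩
  have cov : (e.c1.im (R1 ^ᶜ k) : Set X) ⊆ F.W ∪ (e.c1.im (LW e ^ᶜ k) ∪ (· * F.z) '' e.c1.im (LW e ^ᶜ k)) := by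
    intro y hy
    obtain ⟨x, hx, -, rfl⟩ := e.c1.mem_im.1 hy
    obtain ⟨u, hu, rfl | rfl⟩ := dec x hx
    · have := key _ (mul_mem hu d1.zT) (mul_assoc x _ _ ▸ mul_mem hx (x0 ▸ cj_mem k d1.bR))
      rw [e.c1.mul' (e.T1A hu) (e.T1A d1.zT), d1.βz, Subgroup.mul_mem_cancel_right _ Dy.zW] at this
      exact this.imp_right fun m => .inr ⟨_, m, by simp only [mul_assoc, H.z2, mul_one]⟩
    · rw [e.b1 (e.T1A hu) (e.T2B d2.zT)]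
      exact (key u hu hx).imp_right .inl
  have c4 : (e.c1.im (LW e ^ᶜ k) : Set X).ncard ≤ 4 := by
    have := e.c1.card_im (WR.trans N)
    rw [card_cj] at this
    exact (Nat.le_mul_of_pos_right _ Nat.card_pos).trans (this ▸ cardW1 H)
  have c1 := Set.ncard_le_ncard cov
  have c2 := Set.ncard_union_le (F.W : Set X) (e.c1.im (LW e ^ᶜ k) ∪ (· * F.z) '' e.c1.im (LW e ^ᶜ k))
  have c3 := Set.ncard_union_le (e.c1.im (LW e ^ᶜ k) : Set X) ((· * F.z) '' e.c1.im (LW e ^ᶜ k))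
  have c5 := Set.ncard_image_le (s := (e.c1.im (LW e ^ᶜ k) : Set X)) (f := (· * F.z))
  have c6 : (F.W : Set X).ncard ≤ 4 := cardW H
  have c7 : 16 ≤ (e.c1.im (R1 ^ᶜ k) : Set X).ncard := c16
  omega

open F0 F2b in
theorem F2.sylB (H : Fx F) {e : H43.SW.E2 F.J F.T G} {z1 b1 z2 b2 : G} {R1 R2 : Subgroup G}
    (hS : IsSylowIn 2 (e.T1 ⊔ e.T2) e.G0) (d1 : F0.Sd e z1 b1 R1) (d2 : F0.Sd e.symm z2 b2 R2)
    (n : ∀ g ∈ e.G0, g * z1 * g⁻¹ ≠ b1) : IsSylowIn 2 (R1 ⊔ e.T2) (e.G0 ⊓ centralizer {b1}) := by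
  have le : R1 ⊔ e.T2 ≤ e.G0 ⊓ centralizer {b1} := le_inf ((sup_le_sup_right d1.RT _).trans e.TG)
    fun a ha => mem_centralizer_singleton_iff.2
      (H43.SW.sup_cm d1.Rb (fun a ha => (e.cT d1.bT ha).symm) a ha)
  obtain ⟨P, hP, RP⟩ := exists_isSylowIn_le (F2.pg12 e d1.RT le_rfl) le
  obtain ⟨k, hk, h⟩ := hS.exists_cj_le hP.isP (hP.le.trans inf_le_left)
  obtain ⟨-, nz, -, dec, cl⟩ := common H hS d1 d2 hk ((cj_mono k RP).trans h)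
  refine hP.of_card_le (F2.pg12 e d1.RT le_rfl) le ?_
  have bV := cj_mem k d1.bR
  have WR : LW e ^ᶜ k ≤ R1 ^ᶜ k := cj_mono k fun a ha => (d1.mR a).2 ⟨ha.1, H.WR (mW.1 ha).2⟩
  have PW : LW e ^ᶜ k = LW e := by
    refine eq_of_le_of_card_ge (fun x hx => ?_) (card_cj _ _).ge
    obtain ⟨w, hw, rfl⟩ := mem_cj'.1 hx
    by_cases w1 : w = 1
    · simp [w1]
    obtain ⟨c, hc, rfl⟩ := liftZ H d1 hw w1
    have cG := mul_mem hk (e.le1 hc)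
    obtain ⟨u, hu, l | l⟩ := dec _ (WR hx)
    · refine l ▸ (cl u hu (.inl (l ▸ WR hx))).resolve_right fun ⟨a, ha, m⟩ =>
        n _ (mul_mem (inv_mem (e.le1 ha)) cG) ?_
      calc _ = a⁻¹ * (k * (c * z1 * c⁻¹) * k⁻¹) * a := by group
        _ = _ := by rw [l, ← m]; group
    exfalso
    rcases cl u hu (.inr (l ▸ WR hx)) with m | ⟨a, ha, m⟩
    · by_cases u1 : u = 1
      · exact nz (by simpa [l, u1] using WR hx)
      obtain ⟨a, ha, m⟩ := liftZ H d1 m u1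
      refine F2.n12 hS d1 d2 (mul_mem (inv_mem (e.le1 ha)) cG) ?_
      calc _ = a⁻¹ * (k * (c * z1 * c⁻¹) * k⁻¹) * a := by group
        _ = _ := by rw [l, ← m, ← cjz d2 ha]; group
    · refine F2.caseZ H hS d1 d2 (mul_mem (inv_mem cG) (e.le1 ha)) ?_
      calc _ = (k * c)⁻¹ * (a * (b1 * z2) * a⁻¹) * (k * c) := by group
        _ = _ := by rw [cjz d2 ha, m, ← l]; group
  obtain ⟨u, hu, l⟩ := dec _ bV
  obtain ⟨a, ha, m⟩ : ∃ a ∈ e.A, a * b1 * a⁻¹ = u := by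
    refine (cl u hu (l.elim (fun l => .inl (l ▸ bV)) fun l => .inr (l ▸ bV))).resolve_left fun w => ?_
    rcases l with l | l
    · obtain ⟨a, ha, m⟩ := liftZ H d1 w (l ▸ cjne d1.b1 k)
      refine n _ (mul_mem (inv_mem hk) (e.le1 ha)) ?_
      calc _ = k⁻¹ * (a * z1 * a⁻¹) * k := by group
        _ = _ := by rw [m, ← l]; group
    · exact nz ((Subgroup.mul_mem_cancel_left _ (WR (PW ▸ w))).1 (l ▸ bV))
  rcases d1.invT u hu (m ▸ cjsq d1.b2 a) with h1 | ⟨c, hc, h1⟩ | h1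
  · exact absurd (m.trans h1) (cjne d1.b1 a)
  · refine absurd ?_ (n _ (mul_mem (inv_mem (e.le1 ha)) (e.le1 hc)))
    calc _ = a⁻¹ * (c * z1 * c⁻¹) * a := by group
      _ = _ := by rw [h1, ← m]; group
  have : P ^ᶜ k ≤ (e.T1 ⊓ centralizer {u}) ⊔ e.T2 := fun x hx => by
    obtain ⟨v, hv, w, hw, rfl⟩ := e.dec.1 (h hx)
    have : v * w ∈ centralizer {k * b1 * k⁻¹} :=
      H69.cj_centralizer_singleton b1 k ▸ cj_mono k (hP.le.trans inf_le_right) hx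
    rw [mem_centralizer_singleton_iff] at this
    refine mul_mem_sup ⟨hv, mem_centralizer_singleton_iff.2 ?_⟩ hw
    rcases l with l | l <;> rw [l] at this
    · exact (cm_parts e hv hw hu (one_mem _) (by simpa using this)).1
    · exact (cm_parts e hv hw hu d2.zT this).1
  have := card_le_of_le this
  rw [card_cj, card_sup_comm (fun a ha b hb => e.cT (mem_inf.1 ha).1 hb) fun a ha => T12 e ha.1]
    at this
  rw [card_sup_comm (fun a ha b hb => e.cT (d1.RT ha) hb) fun a ha => T12 e (d1.RT ha)]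
  exact this.trans (Nat.mul_le_mul_right _ h1)

end H79.JS
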