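import Mathlib
import Cfsg.Agent.Lib.JS.F2a

/-! End game, part 3: `T1` is strongly closed, and the final contradiction. -/

set_option autoImplicit false
set_option linter.unusedSectionVars false

namespace H79.JS

open Subgroup H69 H36.SW
open H43.SW (E2 sup_cm zp_comm zp_cm not_mem_comm)
open scoped commutatorElement

variable {X : Type} [Group X] [Finite X] {G : Type*} [Group G] [Finite G] {F : Dy X}

namespace F3

open F0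

/-- a central involution in the derived group lies in the derived group of a Sylow subgroup -/
theorem tr {Y P J : Subgroup G} (hP : IsSylowIn 2 P Y) {y : G} (hy : y ∈ Y)
    (hc : ∀ g ∈ Y, y * g = g * y) (y2 : y * y = 1) (hJ : ∀ p ∈ P, ∀ q ∈ P, ⁅p, q⁆ ∈ J)
    (hd : y ∈ ⁅Y, Y⁆) : y ∈ J := by
  let τ := MonoidHom.transfer (Abelianization.of (G := P.subgroupOf Y))
  have h1 : ⁅Y, Y⁆ ≤ τ.ker.map Y.subtype := commutator_le.2 fun a ha b hb =>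
    ⟨⁅(⟨a, ha⟩ : Y), ⟨b, hb⟩⁆, by
      rw [SetLike.mem_coe, MonoidHom.mem_ker, map_commutatorElement]
      exact commutatorElement_eq_one_iff_mul_comm.2 (mul_comm _ _), rfl⟩
  obtain ⟨⟨y, hy'⟩, h2, rfl⟩ := h1 hd
  have h3 := MonoidHom.transfer_eq_pow (Abelianization.of (G := P.subgroupOf Y)) ⟨y, hy'⟩
    fun m g _ => by
      rw [mul_assoc, inv_mul_eq_iff_eq_mul]
      exact (Commute.pow_left (Subtype.ext (hc g g.2)) m).eq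
  have h4 := (QuotientGroup.eq_one_iff _).1 (h3.symm.trans h2)
  have h5 : commutator (P.subgroupOf Y) ≤ (J.comap Y.subtype).comap (P.subgroupOf Y).subtype :=
    commutator_le.2 fun p _ q _ => hJ _ p.2 _ q.2
  obtain ⟨m, hm⟩ := Nat.odd_iff.2 (Nat.two_dvd_ne_zero.1 hP.not_dvd_relIndex)
  have h6 : y ^ (P.subgroupOf Y).index ∈ J := h5 h4
  rw [show (P.subgroupOf Y).index = 2 * m + 1 from hm, pow_succ, pow_mul, pow_two] at h6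
  simpa [show y * y = 1 from y2] using h6

theorem perfA {J T : Subgroup X} (e : E2 J T G) {V : Subgroup G} (h : V ≤ e.T2) :
    e.A ≤ ⁅e.G0 ⊓ 𝐂(V), e.G0 ⊓ 𝐂(V)⁆ :=
  have k : e.A ≤ e.G0 ⊓ 𝐂(V) := fun a ha =>
    ⟨e.le1 ha, fun b hb => (e.comm a ha b (e.T2B (h hb))).symm⟩
  e.c1.perf.trans (commutator_mono k k)

theorem cjY {J T : Subgroup X} (e : E2 J T G) (V : Subgroup G) (g : G) :
    ⁅e.G0 ⊓ 𝐂(V), e.G0 ⊓ 𝐂(V)⁆ ^ᶜ g = ⁅e.G0 ⊓ 𝐂(V ^ᶜ g), e.G0 ⊓ 𝐂(V ^ᶜ g)⁆ := by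
  rw [cj_commutator, cj_inf, cj_centralizer, cj_eq_of_mem_normalizer (nG e g)]

theorem mvB {J T : Subgroup X} (e : E2 J T G) {x g u v b : G} (hu : u ∈ e.T1) (hb : b ∈ e.B)
    (l : g * x * g⁻¹ = u * (b * v * b⁻¹)) : b⁻¹ * g * x * (b⁻¹ * g)⁻¹ = u * v := by
  calc _ = b⁻¹ * (g * x * g⁻¹) * b := by group
    _ = b⁻¹ * (u * b) * v := by rw [l]; group
    _ = _ := by rw [e.comm u (e.T1A hu) b hb]; group

variable {e : E2 F.J F.T G} {z b : G} {R : Subgroup G}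
  (hS : IsSylowIn 2 (e.T1 ⊔ e.T2) e.G0) (d : Sd e.symm z b R)
  (wc2 : ∀ g ∈ e.G0, e.T2 ^ᶜ g ≤ e.T1 ⊔ e.T2 → e.T2 ^ᶜ g = e.T2)
include hS d

theorem nz : z ∉ ⁅e.G0 ⊓ 𝐂(e.T2), e.G0 ⊓ 𝐂(e.T2)⁆ := by
  have hz : z ∈ e.T2 := d.zT
  have z2 := d.z2
  have zT : z ∉ e.T1 := fun h => d.z1 (T12 e h hz)
  have AY : e.A ≤ e.G0 ⊓ 𝐂(e.T2) := fun a ha =>
    ⟨e.le1 ha, fun b hb => (e.comm a ha b (e.T2B hb)).symm⟩
  have zY : z ∈ e.G0 ⊓ 𝐂(e.T2) := ⟨e.le2 (e.T2B hz), d.zc⟩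
  have k : ∀ a ∈ (e.T1 ⊔ e.T2) ⊓ (e.G0 ⊓ 𝐂(e.T2)), a ∉ e.T1 → ∃ u ∈ e.T1, a = u * z := fun a ha n => by
    obtain ⟨u, hu, v, hv, rfl⟩ := e.dec.1 ha.1
    have : v ∈ 𝐂(e.T2) := (Subgroup.mul_mem_cancel_left _ (AY (e.T1A hu)).2).1 ha.2.2
    rcases d.cen v hv this with rfl | rfl
    exacts [absurd (by simpa using hu) n, ⟨u, hu, rfl⟩]
  refine not_mem_comm (hS.inf_of_le_normalizer inf_le_left (le_normalizer_inf (fun g _ => nG e g)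
    (le_normalizer_centralizer (F2.nT2 e)))) ⟨mem_sup_right hz, zY⟩ zT (fun a ha b hb na nb => ?_) zY
    (by rw [show 4 = 2 * 2 from rfl, pow_mul, pow_two z, z2, one_pow])
    (fun g hg => by rwa [conj_eq_of_mem_centralizer hg.2 hz])
    fun g _ _ => by rw [pow_two, z2, mul_one, mul_inv_cancel]; exact one_mem _
  obtain ⟨u, hu, rfl⟩ := k a ha na
  obtain ⟨v, hv, rfl⟩ := k b hb nb
  rw [mul_assoc, ← mul_assoc z, ← e.cT hv hz, mul_assoc, z2, mul_one]; exact mul_mem hu hv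

include wc2

/-- a subgroup `V` of `T2` centralising `y = x^g` and `T2^g` are moved together into `T1 T2` -/
theorem mv {x g : G} (hx : x ∈ e.T1) (hg : g ∈ e.G0) {V : Subgroup G} (hV : V ≤ e.T2)
    (c : ∀ a ∈ V, a * (g * x * g⁻¹) = g * x * g⁻¹ * a) :
    ∃ η ∈ e.G0, V ^ᶜ η ≤ e.T1 ⊔ e.T2 ∧ η * (g * x * g⁻¹) * η⁻¹ ∈ e.T1 ⊔ e.T2 ∧
      ∃ k ∈ e.G0, e.T2 ^ᶜ k = e.T2 ∧ k * x * k⁻¹ = η * (g * x * g⁻¹) * η⁻¹ := by
  have cx : ∀ a ∈ e.T2 ⊔ zpowers x, a * x = x * a :=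
    sup_cm (fun a ha => (e.cT hx ha).symm) (zp_cm rfl)
  have le : e.T2 ⊔ zpowers x ≤ e.T1 ⊔ e.T2 := sup_le le_sup_right (zpowers_le.2 (mem_sup_left hx))
  obtain ⟨P, hP⟩ := exists_isSylowIn 2 (e.G0 ⊓ centralizer {g * x * g⁻¹})
  obtain ⟨k, hk, k1, k2⟩ := F2.ext hP hg rfl ((pT0 e).to_le le) (le.trans e.TG) cx
  obtain ⟨s, hs, s1, s2⟩ := F2.ext hP (one_mem _) (by simp) ((pT2 e).to_le hV)
    ((hV.trans le_sup_right).trans e.TG) c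
  obtain ⟨m, hm, h⟩ := hS.exists_cj_le hP.isP (hP.le.trans inf_le_left)
  have e1 : m * s * (g * x * g⁻¹) * (m * s)⁻¹ = m * k * x * (m * k)⁻¹ := by
    calc _ = m * (s * (g * x * g⁻¹) * s⁻¹) * m⁻¹ := by group
      _ = _ := by rw [s1, ← k1]; group
  have h2 : (e.T2 ⊔ zpowers x) ^ᶜ (m * k) ≤ e.T1 ⊔ e.T2 := cj_cj _ k m ▸ (cj_mono m k2).trans h
  exact ⟨m * s, mul_mem hm hs, cj_cj _ s m ▸ (cj_mono m s2).trans h,
    e1 ▸ h2 (cj_mem _ (mem_sup_right (mem_zpowers x))), m * k, mul_mem hm hk,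
    wc2 _ (mul_mem hm hk) ((cj_mono _ le_sup_left).trans h2), e1.symm⟩

theorem Z0 {x g u : G} (hx : x ∈ e.T1) (hg : g ∈ e.G0) (hu : u ∈ e.T1) : g * x * g⁻¹ ≠ u * z := fun l => by
  obtain ⟨η, hη, h1, -, k, -, h3, h4⟩ := mv hS d wc2 hx hg le_rfl fun a ha => by
    rw [l, ← mul_assoc, ← e.cT hu ha, mul_assoc, d.zc a ha, mul_assoc]
  have k1 := cj_mem k (perfA e le_rfl (e.T1A hx))
  rw [cjY, h3, h4, ← wc2 η hη h1, ← cjY, cj_mem_iff, l] at k1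
  exact nz hS d ((Subgroup.mul_mem_cancel_left _ (perfA e le_rfl (e.T1A hu))).1 k1)

theorem Z {x g u a : G} (hx : x ∈ e.T1) (hg : g ∈ e.G0) (hu : u ∈ e.T1) (ha : a ∈ e.B) :
    g * x * g⁻¹ ≠ u * (a * z * a⁻¹) := fun l =>
  Z0 hS d wc2 hx (mul_mem (inv_mem (e.le2 ha)) hg) hu (mvB e hu ha l)

variable (wc1 : ∀ g ∈ e.G0, e.T1 ^ᶜ g ≤ e.T1 ⊔ e.T2 → e.T1 ^ᶜ g = e.T1)
  (f2 : ∀ i ∈ e.T2, i * i = 1 → ∀ g ∈ e.G0, g * i * g⁻¹ ∈ e.T1 ⊔ e.T2 → g * i * g⁻¹ ∈ e.T2)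
include f2

omit hS wc2 in
theorem fus2 {m : G} (hm : m ∈ e.G0) (h : R ^ᶜ m ≤ e.T1 ⊔ e.T2) : R ^ᶜ m ≤ e.T2 :=
  cj_le_iff.2 (d.genR.trans ((closure_le _).2 fun a ha =>
    mem_cj.2 (by simpa using f2 a (d.RT ha.1) ha.2 m hm (h (cj_mem m ha.1)))))

include wc1

theorem B0 {x g u : G} (hx : x ∈ e.T1) (hg : g ∈ e.G0) (hu : u ∈ e.T1) : g * x * g⁻¹ ≠ u * b := fun l => by
  have RT : R ≤ e.T2 := d.RT
  have hb : b ∈ e.T2 := d.bT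
  have bY : b ∈ ⁅e.G0 ⊓ 𝐂(R), e.G0 ⊓ 𝐂(R)⁆ := by
    obtain ⟨η, hη, h1, h2, k, hk, h3, h4⟩ := mv hS d wc2 hx hg RT fun a ha => by
      rw [l, ← mul_assoc, ← e.cT hu (RT ha), mul_assoc, d.Rb a ha, mul_assoc]
    rw [← h4] at h2
    obtain ⟨u', hu', v, hv, l'⟩ := e.dec.1 h2
    rcases d.cen v hv fun a ha => mul_left_cancel (a := u') (by
      obtain ⟨c, hc, rfl⟩ := mem_cj'.1 (h3.ge ha)
      rw [← mul_assoc, e.cT hu' ha, mul_assoc _ u', ← l', ← cjc (e.cT hx hc), l', mul_assoc u'])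
      with rfl | rfl
    · have k1 := perfA e (fus2 d f2 hη h1) (e.T1A hu')
      rw [← mul_one u', ← l', h4, ← cjY, cj_mem_iff, l] at k1
      exact (Subgroup.mul_mem_cancel_left _ (perfA e RT (e.T1A hu))).1 k1
    · exact absurd l' (Z0 hS d wc2 hx hk hu')
  have TY : e.T1 ≤ e.G0 ⊓ 𝐂(R) := fun a ha =>
    ⟨e.le1 (e.T1A ha), fun c hc => (e.cT ha (RT hc)).symm⟩
  obtain ⟨P, hP, TP⟩ := exists_isSylowIn_le (pT1 e) TY
  have PC : P ≤ 𝐂(R) := hP.le.trans inf_le_right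
  obtain ⟨m, hm, h⟩ := hS.exists_cj_le (isPGroup_sup_of_le_normalizer_right hP.isP ((pT2 e).to_le RT)
    (le_normalizer_of_le_centralizer PC))
    (sup_le (hP.le.trans inf_le_left) ((RT.trans le_sup_right).trans e.TG))
  have m1 := wc1 m hm ((cj_mono m (TP.trans le_sup_left)).trans h)
  have m2 := fus2 d f2 hm ((cj_mono m le_sup_right).trans h)
  have b2 := m2 (cj_mem m d.bR')
  have cR : R ^ᶜ m = e.T2 ⊓ centralizer {m * b * m⁻¹} := by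
    refine eq_of_le_of_card_ge (le_inf m2 ?_) ?_
    · rw [← H69.cj_centralizer_singleton]
      exact cj_mono m fun a ha => mem_centralizer_singleton_iff.2 (d.Rb a ha)
    rcases d.invT _ b2 (cjsq d.b2 m) with h1 | ⟨a, ha, h1⟩ | h1
    · exact absurd h1 (cjne d.b1 m)
    · refine absurd ?_ (Z hS d wc2 hx (mul_mem hm hg) (m1.le (cj_mem m hu)) ha)
      rw [h1, conj_mul, ← l]; group
    · rwa [card_cj]
  have dec : ∀ p ∈ P, ∃ p1 ∈ e.T1, ∃ p2 ∈ e.T2, m * p * m⁻¹ = p1 * p2 ∧ p2 ∈ 𝐂(R ^ᶜ m) :=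
    fun p hp => by
      obtain ⟨p1, h1, p2, h2, l⟩ := e.dec.1 (h (cj_mem m (mem_sup_left hp)))
      have := cj_mem m (PC hp)
      rw [cj_centralizer, l] at this
      exact ⟨p1, h1, p2, h2, l, (Subgroup.mul_mem_cancel_left _
        (mem_centralizer_iff_commute.2 fun c hc => (e.cT h1 (m2 hc)).symm)).1 this⟩
  have := tr (J := e.T1 ^ᶜ m⁻¹) hP ⟨e.le2 (e.T2B hb), d.Rb⟩ (fun g hg => hg.2 b d.bR') d.b2
    (fun p hp q hq => by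
      obtain ⟨p1, h1, p2, h2, l1, c1⟩ := dec p hp
      obtain ⟨q1, h3, q2, h4, l2, c2⟩ := dec q hq
      have : p2 ∈ R ^ᶜ m := cR ▸ ⟨h2, mem_centralizer_singleton_iff.2 (c1 _ (cj_mem m d.bR')).symm⟩
      rw [mem_cj, inv_inv, conjugate_commutatorElement, l1, l2, cmt_parts e h2 h3 h1 h4 (c2 _ this)]
      exact commutator_le_of_le le_rfl le_rfl (commutator_mem_commutator h1 h3)) bY
  rw [mem_cj, inv_inv] at this
  exact cjne d.b1 m (T12 e this b2)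

theorem sc : ∀ x ∈ e.T1, ∀ g ∈ e.G0, g * x * g⁻¹ ∈ e.T1 ⊔ e.T2 → g * x * g⁻¹ ∈ e.T1 := by
  suffices h : ∀ k, ∀ x ∈ e.T1, x ^ 2 ^ k = 1 → ∀ g ∈ e.G0, g * x * g⁻¹ ∈ e.T1 ⊔ e.T2 →
      g * x * g⁻¹ ∈ e.T1 from fun x hx => let ⟨k, hk⟩ := P1 e hx; h k x hx hk
  intro k
  induction k with
  | zero =>
    intro x _ h g _ _
    rw [pow_zero, pow_one] at h; rw [h, mul_one, mul_inv_cancel]; exact one_mem _
  | succ k ih =>
    intro x hx h g hg hy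
    have h1 := ih (x * x) (mul_mem hx hx) (by rw [← pow_two, ← pow_mul, ← pow_succ', h]) g hg
      (by rw [← conj_mul]; exact mul_mem hy hy)
    obtain ⟨u, hu, v, hv, l⟩ := e.dec.1 hy
    have v2 : v * v = 1 := (e.split' (mul_mem hu hu) (mul_mem hv hv) h1 (one_mem _) (by
      rw [← conj_mul, l, mul_one, mul_assoc, mul_assoc, ← mul_assoc v, ← e.cT hu hv, mul_assoc])).2
    rcases d.inv v (e.T2B hv) v2 with rfl | ⟨a, ha, rfl⟩ | ⟨a, ha, rfl⟩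
    · rw [l, mul_one]; exact hu
    · exact absurd l (Z hS d wc2 hx hg hu ha)
    · exact absurd (mvB e hu ha l) (B0 hS d wc2 wc1 f2 hx (mul_mem (inv_mem (e.le2 ha)) hg) hu)

end F3

theorem Fx.e2_false (H : Fx F) (e : E2 F.J F.T G) (hS : IsSylowIn 2 (e.T1 ⊔ e.T2) e.G0)
    (f1 : ∀ i ∈ e.T1, i * i = 1 → ∀ g ∈ e.G0, g * i * g⁻¹ ∈ e.T1 ⊔ e.T2 → g * i * g⁻¹ ∈ e.T1)
    (f2 : ∀ i ∈ e.T2, i * i = 1 → ∀ g ∈ e.G0, g * i * g⁻¹ ∈ e.T1 ⊔ e.T2 → g * i * g⁻¹ ∈ e.T2) : False := by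
  obtain ⟨z1, b1, R1, d1⟩ := F0.exists_sd H e
  obtain ⟨z2, b2, R2, d2⟩ := F0.exists_sd H e.symm
  have := e.fin hS H.Jne (e.le1 (e.T1A d1.zT)) d1.z1 d1.z2 (F3.sc hS d2
    (fun g hg => e.symm.wc (e.sS' hS) H.genT (fun i hi i2 g hg h => f2 i hi i2 g hg
      (sup_comm e.T1 e.T2 ▸ h)) hS.isP hS.le le_sup_right hg)
    (fun g hg => e.wc hS H.genT f1 hS.isP hS.le le_sup_left hg) f2)
  exact d1.z1 ((eq_bot_iff_forall _).1 (commutator_eq_bot_of_le_centralizer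
    fun a ha b hb => this b hb a (e.le1 (e.T1A ha))) _ d1.zTT)

end H79.JS
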