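import Cfsg.Agent.Lib.JS.Defs2
import Cfsg.Agent.Lib.JS.F3

/-! The four-group `V` meets the pump-up trivially in the linear case (helper75). -/

set_option autoImplicit false
set_option linter.unusedSectionVars false

namespace H79.JS

open Subgroup H69 H36.SW
open H48.SM (Pf)
open scoped commutatorElement

variable {X : Type} [Group X] [Finite X] {G : Type*} [Group G] [Finite G] {F : Dy X}
variable {t : G} {L O A V Y I S : Subgroup G} {α : G → X} {h e : X → G}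

namespace TWH

theorem mem_of_sq {K : Subgroup G} {o : G} (ho : Odd (orderOf o)) (h : o * o ∈ K) : o ∈ K := by
  obtain ⟨k, hk⟩ := ho
  have : o = (o * o) ^ (k + 1) := by
    rw [← sq, ← pow_mul, show 2 * (k + 1) = orderOf o + 1 by omega, pow_succ, pow_orderOf_eq_one,
      one_mul]
  rw [this]; exact pow_mem h _

theorem ωV (H : Fx F) {v : X} (hv : v ∈ F.V) : F.ω * v * F.ω⁻¹ ∈ F.V := by
  have e3 : F.ω * (F.b * F.c) * F.ω⁻¹ = F.b := by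
    calc _ = F.ω * F.b * F.ω⁻¹ * (F.ω * F.c * F.ω⁻¹) := by group
      _ = F.b * (F.c * F.c) := by rw [H.ωb, H.ωc, ← mul_assoc, ← H.bc, mul_assoc]
      _ = _ := by rw [H.c2, mul_one]
  rcases H.mem_V.1 hv with rfl | rfl | rfl | rfl
  · rw [mul_one, mul_inv_cancel]; exact one_mem _
  · rw [H.ωb]; exact Dy.cV
  · rw [H.ωc]; exact mul_mem Dy.bV Dy.cV
  · rw [e3]; exact Dy.bV

theorem ΩV (H : Fx F) (x : T3 F t L O α h e A V Y I S) {v : G} (hv : v ∈ V) :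
    h F.ω * v * (h F.ω)⁻¹ ∈ V := by
  obtain ⟨u, hu, rfl⟩ := (x.mV v).1 hv
  rw [← x.cj H.ωJ (H.VJ hu)]
  exact (x.mV _).2 ⟨_, ωV H hu, rfl⟩

theorem W_V (H : Fx F) (x : T3 F t L O α h e A V Y I S) {w : X} (hw : w ∈ F.W) (hV : h w ∈ V) :
    w = 1 := by
  obtain ⟨u, hu, k⟩ := (x.mV _).1 hV
  have := x.hinj (H.VJ hu) (H.WJ hw) k
  rw [← this]; exact H.bW u hu (this ▸ hw)

theorem W_I (H : Fx F) (x : T3 F t L O α h e A V Y I S) {w : X} (hw : w ∈ F.W) : h w ∈ I :=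
  x.pu.XI ((x.mY _).2 ⟨w, H.WX hw, rfl⟩)

/-- `ω̂` acts trivially on `(S ∩ I) V / V` -/
theorem act (H : Fx F) (x : T3 F t L O α h e A V Y I S) (lf : H79.JO.LF I) {p : G} (hS : p ∈ S)
    (hI : p ∈ I) : ∃ v ∈ V, h F.ω * p * (h F.ω)⁻¹ = p * v := by
  have SC : ∀ s ∈ S, ∀ v ∈ V, v * s = s * v := fun s hs v hv => x.syl.le hs v hv
  have ΩN : h F.ω ∈ 𝐍(I) := x.NV (mem_normalizer_fintype fun v hv => ΩV H x hv)
  have ΩW : ∀ w ∈ F.W, h F.ω * h w = h w * h F.ω := fun w hw =>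
    x.comm H.ωJ (H.WJ hw) (H.ωX w (H.WX hw)).symm
  set Ω := h F.ω with hΩ
  have Ωt : Ω * t = t * Ω := x.ht H.ωJ
  have p'I : Ω * p * Ω⁻¹ ∈ I := (mem_normalizer_iff.1 ΩN p).1 hI
  obtain ⟨a, ha, ka⟩ := x.cjS p (mul_mem (mul_mem hS x.tS) (inv_mem hS))
  have Ωa : Ω * a = a * Ω := x.cW _ H.ωJ (H.ωX _ H.zX).symm (H.ωX _ H.qX).symm a ha
  obtain ⟨δ, hδ⟩ : ∃ δ, δ = p⁻¹ * (Ω * p * Ω⁻¹) := ⟨_, rfl⟩
  have δI : δ ∈ I := hδ ▸ mul_mem (inv_mem hI) p'I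
  have δt : δ * t = t * δ := by
    rw [← mul_inv_eq_iff_eq_mul, hδ]
    calc _ = p⁻¹ * (Ω * (p * (Ω⁻¹ * (t * Ω)) * p⁻¹) * Ω⁻¹) * p := by group
      _ = p⁻¹ * (Ω * (p * t * p⁻¹) * Ω⁻¹) * p := by rw [← Ωt, inv_mul_cancel_left]
      _ = p⁻¹ * (Ω * t * a * Ω⁻¹) * p := by rw [ka, ← mul_assoc Ω]
      _ = p⁻¹ * (t * a) * p := by rw [Ωt, mul_assoc t, Ωa, mul_assoc t, mul_inv_cancel_right]
      _ = t := by rw [← ka]; group
  have δN := x.CN δ δt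
  have δb : α δ * F.b = F.b * α δ :=
    x.of_comm δN H.bJ (x.pu.IH δI _ ((x.mV _).2 ⟨_, Dy.bV, rfl⟩)).symm
  have δW : ∀ w ∈ F.W, w ≠ 1 → α δ * w = w * α δ := fun w hw w1 => by
    have w2 : h w * h w = 1 := x.sq (H.WJ hw) (H.R2 w (H.WR hw))
    have k1 := x.SW p hS w hw
    have k2 := x.SW p⁻¹ (inv_mem hS) w hw
    have k3 : Ω * _ * Ω⁻¹ ∈ V := ΩV H x k1
    have k4 : δ * h w * δ⁻¹ * h w ∈ V := by
      have e1 : Ω * p * Ω⁻¹ * h w * (Ω * p * Ω⁻¹)⁻¹ = Ω * (p * h w * p⁻¹ * h w) * Ω⁻¹ * h w := by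
        calc _ = Ω * p * (Ω⁻¹ * (h w * Ω)) * p⁻¹ * Ω⁻¹ := by group
          _ = Ω * (p * h w * p⁻¹) * (h w * h w) * Ω⁻¹ := by
            rw [← ΩW w hw, inv_mul_cancel_left, w2]; group
          _ = Ω * (p * h w * p⁻¹ * h w) * Ω⁻¹ * (Ω * h w) * Ω⁻¹ := by group
          _ = _ := by rw [ΩW w hw]; group
      have e2 : δ * h w * δ⁻¹ * h w =
          Ω * (p * h w * p⁻¹ * h w) * Ω⁻¹ * (p⁻¹ * h w * p⁻¹⁻¹ * h w) := by
        calc _ = p⁻¹ * (Ω * p * Ω⁻¹ * h w * (Ω * p * Ω⁻¹)⁻¹) * p * h w := by rw [hδ]; group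
          _ = p⁻¹ * (Ω * (p * h w * p⁻¹ * h w) * Ω⁻¹) * h w * p * h w := by rw [e1]; group
          _ = _ := by rw [← SC _ (inv_mem hS) _ k3]; group
      rw [e2]; exact mul_mem k3 k2
    obtain ⟨v, hv, kv⟩ := (x.mV _).1 k4
    have hc := H.cjJ (H.WJ hw) (α δ)
    rw [x.conj δN (H.WJ hw), ← x.mul hc (H.WJ hw)] at kv
    have k5 := x.hinj (H.VJ hv) (mul_mem hc (H.WJ hw)) kv
    have k6 : α δ * w * (α δ)⁻¹ = v * w := by rw [k5, mul_assoc _ w w, H.R2 w (H.WR hw), mul_one]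
    by_cases v1 : v = 1
    · rw [v1, one_mul] at k6; exact mul_inv_eq_iff_eq_mul.1 k6
    · exact absurd (k6 ▸ H.Zc_cj (H.Zw hw w1) (α δ)) (H.not_Zc (H.RB _ (mul_mem (H.VR hv) (H.WR hw))
        fun l => v1 (H.bW v hv ((mul_mem_cancel_right hw).1 l))))
  have δR : α δ ∈ F.R := H.cbW _ δb (δW _ Dy.zW H.z1) (δW _ Dy.qW (H.Zc_ne H.Zq))
  obtain ⟨w, hw, v, hv, kβ⟩ := (H.memR _).1 δR
  have vV : h v ∈ V := (x.mV _).2 ⟨v, hv, rfl⟩
  have kh : h (α δ) = h w * h v := by rw [kβ, x.mul (H.WJ hw) (H.VJ hv)]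
  have β2 : h (α δ) * h (α δ) = 1 := x.sq (H.RJ δR) (H.R2 _ δR)
  have δβ : δ = h w * h v := by
    obtain ⟨o, ho, k | k⟩ := x.ovr δt (H.RJ δR)
    · have βo := x.hO (H.RJ δR) ho
      have oI : o ∈ I := mem_of_sq (x.oddO o ho) (by
        have : δ * δ = o * o := by
          calc _ = h (α δ) * o * (h (α δ) * o) := by rw [← k]
            _ = h (α δ) * (o * h (α δ)) * o := by group
            _ = h (α δ) * h (α δ) * o * o := by rw [← βo]; group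
            _ = _ := by rw [β2, one_mul]
        exact this ▸ mul_mem δI δI)
      have z2 : h F.z * h F.z = 1 := x.sq H.zJ H.z2
      have oC : o ∈ 𝐂(I) := lf.cen2 _ (W_I H x Dy.zW)
        (fun l => H.z1 (W_V H x Dy.zW (x.pu.cI _ (x.pu.IH (W_I H x Dy.zW)) l (P2.of_sq z2))))
        (z2 ▸ one_mem _) o oI (x.oddO o ho) (by
          rw [← x.hO H.zJ ho, mul_inv_cancel_right, mul_inv_cancel]; exact one_mem _)
      have pw : p * h w ∈ S := mul_mem hS (x.AS (x.ab.YA w hw))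
      have y2 : P2 (p * h (α δ)) := by
        rw [kh, ← mul_assoc]
        exact (P2.of_mem x.syl.isP pw).mul (P2.of_sq (x.sq (H.VJ hv) (H.R2 v (H.VR hv))))
          (SC _ pw _ vV).symm
      have o1 : o = 1 := y2.odd_eq_one (by
          rw [mul_assoc, ← k, hδ, mul_inv_cancel_left]; exact (P2.of_mem x.syl.isP hS).conj Ω)
        (by rw [mul_assoc, βo, ← mul_assoc, oC p hI, mul_assoc]) (x.oddO o ho)
      rw [k, o1, mul_one, kh]
    · exfalso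
      have m1 : h (α δ) ∈ I ⊔ V := kh ▸ mul_mem (mem_sup_left (W_I H x hw)) (mem_sup_right vV)
      have m2 : t * o ∈ I ⊔ V := by
        have := mul_mem (inv_mem m1) (mem_sup_left δI : δ ∈ I ⊔ V)
        rwa [← mul_left_cancel_iff (a := h (α δ)) |>.1 (show h (α δ) * (t * o) =
          h (α δ) * ((h (α δ))⁻¹ * δ) by rw [mul_inv_cancel_left, ← mul_assoc, ← k])] at this
      have := pow_mem m2 (orderOf o)
      rw [(show Commute t o from (x.Ot o ho).symm).mul_pow, pow_orderOf_eq_one, mul_one,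
        pow_odd_of_sq x.t2 (x.oddO o ho)] at this
      exact x.tI this
  have w2 : h w * h w = 1 := x.sq (H.WJ hw) (H.R2 w (H.WR hw))
  have wS : h w ∈ S := x.AS (x.ab.YA w hw)
  have e1 : Ω * p * Ω⁻¹ = p * (h w * h v) := by rw [← δβ, hδ, mul_inv_cancel_left]
  have Ωw : Ω * h w * Ω⁻¹ = h w := by rw [ΩW w hw, mul_inv_cancel_right]
  have Ω3 : Ω * Ω * Ω = 1 := by
    rw [← pow_three', hΩ, ← x.pow H.ωJ, H.ω3, x.one]
  have step : ∀ u ∈ V, ∀ y, Ω * y * Ω⁻¹ = y → ∃ u' ∈ V,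
      Ω * (p * (y * u)) * Ω⁻¹ = p * (h w * y * u') ∨ ¬ h v * y = y * h v := fun u hu y hy => by
    refine ⟨h v * (Ω * u * Ω⁻¹), mul_mem vV (ΩV H x hu), ?_⟩
    by_cases c : h v * y = y * h v
    · left
      calc _ = Ω * p * Ω⁻¹ * (Ω * y * Ω⁻¹) * (Ω * u * Ω⁻¹) := by group
        _ = p * h w * (h v * y) * (Ω * u * Ω⁻¹) := by rw [e1, hy]; group
        _ = _ := by rw [c]; group
    · exact Or.inr c
  obtain ⟨u1, hu1, k1⟩ := step _ vV _ Ωw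
  replace k1 := k1.resolve_right (not_not.2 (SC _ wS _ vV))
  rw [w2] at k1
  obtain ⟨u2, hu2, k2⟩ := step _ hu1 1 (by group)
  replace k2 := k2.resolve_right (not_not.2 (by group))
  rw [← k1, ← e1] at k2
  have k3 : p = p * (h w * 1 * u2) := by
    rw [← k2]
    calc p = Ω * Ω * Ω * p * (Ω * Ω * Ω)⁻¹ := by rw [Ω3]; group
      _ = _ := by group
  have k4 : h w ∈ V := by
    have : h w * u2 = 1 := by rw [mul_one] at k3; exact (mul_eq_left.1 k3.symm)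
    rw [eq_inv_of_mul_eq_one_left this]; exact inv_mem hu2
  exact ⟨_, mul_mem k4 vV, e1⟩

end TWH

theorem T3.bI (H : Fx F) (x : T3 F t L O α h e A V Y I S) (lf : H79.JO.LF I) : h F.b ∉ I := by
  intro hb
  have bV : h F.b ∈ V := (x.mV _).2 ⟨_, Dy.bV, rfl⟩
  have k := F3.tr (J := centralizer {h F.ω}) (x.syl.inf_normal x.pu.IH x.pu.nI) hb
    (fun g hg => x.pu.IH hg _ bV) (x.sq H.bJ H.b2) (fun p hp q hq => by
      obtain ⟨u, hu, k1⟩ := TWH.act H x lf (mem_inf.1 hp).1 (mem_inf.1 hp).2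
      obtain ⟨v, hv, k2⟩ := TWH.act H x lf (mem_inf.1 hq).1 (mem_inf.1 hq).2
      have uq : u * q = q * u := x.pu.IH (mem_inf.1 hq).2 u hu
      have vp : v * p = p * v := x.pu.IH (mem_inf.1 hp).2 v hv
      have uv : u * v = v * u := by
        obtain ⟨u', hu', rfl⟩ := (x.mV _).1 hu
        obtain ⟨v', hv', rfl⟩ := (x.mV _).1 hv
        exact x.comm (H.VJ hu') (H.VJ hv') (H.Rc (H.VR hu') (H.VR hv'))
      rw [mem_centralizer_singleton_iff, eq_comm, ← mul_inv_eq_iff_eq_mul]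
      calc _ = h F.ω * p * (h F.ω)⁻¹ * (h F.ω * q * (h F.ω)⁻¹) * (h F.ω * p * (h F.ω)⁻¹)⁻¹ *
            (h F.ω * q * (h F.ω)⁻¹)⁻¹ := by rw [commutatorElement_def]; group
        _ = p * (u * q) * v * u⁻¹ * p⁻¹ * v⁻¹ * q⁻¹ := by rw [k1, k2]; group
        _ = p * q * (u * v) * u⁻¹ * (v * p)⁻¹ * q⁻¹ := by rw [uq]; group
        _ = _ := by rw [uv, vp, commutatorElement_def]; group) (x.pu.perf hb)
  have k2 := mem_centralizer_singleton_iff.1 k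
  have k3 : h F.c = h F.b := by
    rw [← H.ωb, x.cj H.ωJ H.bJ, ← k2, mul_inv_cancel_right]
  exact H.bc1 (x.hinj H.bJ H.cJ' k3.symm)

end H79.JS
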